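import Cfsg.Agent.H727.Orth.Rows
import Cfsg.Agent.S2434
import Cfsg.Agent.S2306
import Cfsg.Agent.S2432
import Cfsg.Agent.S2433
import Cfsg.Agent.H984.SLTorus
import Cfsg.Agent.Blocks.Deflate
import Cfsg.Agent.SmallSimple.PSLTwoPart

/-!
# The row of `PSL(2, q)`, `q` odd
-/

set_option autoImplicit false
set_option linter.unusedSectionVars false
set_option linter.style.haveILetI false

namespace Cfsg.Agent.H727.Orth

open Cfsg
open scoped ComplexConjugate
open Cfsg.Agent.Characters.Core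

universe u v

section

variable {F : Type u} [Field F] [Fintype F]

local notation "SL" => Matrix.SpecialLinearGroup (Fin 2) F

/-- If `-1` is a square, all elements of `SL₂` are real. -/
theorem real_sl {i : F} (hi : i * i = -1) (M : SL) : ∃ P : SL, P * M * P⁻¹ = M⁻¹ := by
  obtain ⟨x, y, z, hxyz, h⟩ : ∃ x y z : F, -(x * x) - y * z = 1 ∧
      x * (M.1 0 0 - M.1 1 1) + y * M.1 1 0 + z * M.1 0 1 = 0 := by
    by_cases hc : M.1 1 0 = 0
    · by_cases hb : M.1 0 1 = 0
      · exact ⟨0, 1, -1, by ring, by rw [hc, hb]; ring⟩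
      · refine ⟨i, 0, -i * (M.1 0 0 - M.1 1 1) / M.1 0 1, by linear_combination -hi, ?_⟩
        field_simp
        ring
    · refine ⟨i, -i * (M.1 0 0 - M.1 1 1) / M.1 1 0, 0, by linear_combination -hi, ?_⟩
      field_simp
      ring
  let P : SL := ⟨!![x, y; z, -x], by
    rw [Matrix.det_fin_two_of]
    linear_combination hxyz⟩
  refine ⟨P, ?_⟩
  rw [mul_inv_eq_iff_eq_mul]
  apply Subtype.ext
  have e1 : ((P * M : SL) : Matrix (Fin 2) (Fin 2) F) = !![x, y; z, -x] * M.1 := rfl
  have e2 : ((M⁻¹ * P : SL) : Matrix (Fin 2) (Fin 2) F) =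
      !![M.1 1 1, -M.1 0 1; -M.1 1 0, M.1 0 0] * !![x, y; z, -x] := by
    rw [← Matrix.adjugate_fin_two]
    rfl
  refine e1.trans (Eq.trans ?_ e2.symm)
  conv_lhs => rw [Matrix.eta_fin_two M.1]
  rw [Matrix.mul_fin_two, Matrix.mul_fin_two]
  ext a b
  fin_cases a <;> fin_cases b
  · simp
    linear_combination h
  · simp
    ring
  · simp
    ring
  · simp
    linear_combination h

theorem center_sq {z : SL} (hz : z ∈ Subgroup.center SL) : z * z = 1 := by
  obtain ⟨r, hr, hrz⟩ := Matrix.SpecialLinearGroup.mem_center_iff.1 hz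
  rw [Fintype.card_fin] at hr
  apply Subtype.ext
  have e1 : ((z * z : SL) : Matrix (Fin 2) (Fin 2) F) = (z : Matrix (Fin 2) (Fin 2) F) * z := rfl
  refine e1.trans ?_
  rw [← hrz, ← map_mul, ← sq, hr, map_one]
  rfl

/-- Descent to the projective group. -/
theorem exists_psl {χ : SL → ℂ} (hχ : IsIrrCharacter SL χ)
    (hz : ∀ z ∈ Subgroup.center SL, χ z = χ 1) :
    ∃ χ' : Matrix.ProjectiveSpecialLinearGroup (Fin 2) F → ℂ,
      IsIrrCharacter (Matrix.ProjectiveSpecialLinearGroup (Fin 2) F) χ' ∧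
      ∀ g : SL, χ' (QuotientGroup.mk g) = χ g := by
  classical
  haveI : Fintype (Subgroup.center SL) := Fintype.ofFinite _
  obtain ⟨χ', h⟩ := Cfsg.Agent.Blocks.Deflate.exists_deflation (Subgroup.center SL) χ hχ (by
    rw [Finset.sum_congr rfl fun (n : Subgroup.center SL) _ => hz n n.2, Finset.sum_const,
      nsmul_eq_mul]
    refine mul_ne_zero ?_ (isIrr_apply_one_ne_zero hχ)
    have h1 : (Finset.univ : Finset (Subgroup.center SL)).card ≠ 0 := by
      rw [Finset.card_univ]
      exact Fintype.card_ne_zero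
    exact_mod_cast h1)
  exact ⟨χ', χ'.2, fun g => (congrFun h g).symm⟩

theorem eq_one_of_sq_of_odd {M : Type*} [Monoid M] {x : M} (h2 : x ^ 2 = 1) {m : ℕ} (hm : Odd m)
    (h : x ^ m = 1) : x = 1 := by
  obtain ⟨k, rfl⟩ := hm
  rwa [pow_succ, pow_mul, h2, one_pow, one_mul] at h

theorem exists_root {m : ℕ} (hm : m ≠ 0) : ∃ ζ : ℂˣ, orderOf ζ = m := by
  have h1 := Complex.isPrimitiveRoot_exp m hm
  refine ⟨(h1.isUnit hm).unit, ?_⟩
  rw [← orderOf_units, IsUnit.unit_spec]
  exact h1.eq_orderOf.symm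

/-- A real character of degree `q - 1` for `q ≡ 1 mod 4`. -/
theorem exists_minus (h1 : Fintype.card F % 4 = 1) (h5 : 5 ≤ Fintype.card F) :
    ∃ χ : Matrix.ProjectiveSpecialLinearGroup (Fin 2) F → ℂ,
      IsIrrCharacter (Matrix.ProjectiveSpecialLinearGroup (Fin 2) F) χ ∧
      (∀ g, conj (χ g) = χ g) ∧ charDegree χ = Fintype.card F - 1 := by
  classical
  have hodd : Odd (Fintype.card F) := Nat.odd_iff.2 (by omega)
  obtain ⟨i, hi⟩ : ∃ i : F, i * i = -1 := by
    obtain ⟨i, hi⟩ := FiniteField.isSquare_neg_one_iff.2 (show Fintype.card F % 4 ≠ 3 by omega)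
    exact ⟨i, hi.symm⟩
  obtain ⟨g, hg⟩ := Cfsg.Agent.H984.SLTwo.exists_ell (F := F)
  have hcyc := Cfsg.Agent.H984.SLTwo.isCyclic_cent g hg
  have hcard := Cfsg.Agent.H984.SLTwo.card_cent_ell g hg
  set C := Subgroup.centralizer ({g} : Set SL) with hC
  obtain ⟨γ, hγ⟩ := IsCyclic.exists_generator (α := C)
  set m := (Fintype.card F + 1) / 2 with hm
  have hm2 : Fintype.card F + 1 = m * 2 := by omega
  have hmodd : Odd m := Nat.odd_iff.2 (by omega)
  obtain ⟨ζ, hζ⟩ := exists_root (m := m) (by omega)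
  have hord : orderOf γ = Fintype.card F + 1 := by
    rw [orderOf_eq_card_of_forall_mem_zpowers hγ, hcard]
  let θ : C →* ℂˣ := monoidHomOfForallMemZpowers hγ (g' := ζ) (by
    rw [hζ, hord, hm2]
    exact dvd_mul_right _ _)
  have hθγ : θ γ = ζ := monoidHomOfForallMemZpowers_apply_gen hγ _
  have hθm : ∀ c : C, θ c ^ m = 1 := by
    intro c
    obtain ⟨k, hk⟩ := hγ c
    have hk' : γ ^ k = c := hk
    rw [← hk', map_zpow, hθγ, ← zpow_natCast, ← zpow_mul, mul_comm, zpow_mul, zpow_natCast, ← hζ,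
      pow_orderOf_eq_one, one_zpow]
  obtain ⟨χ, hχ, hχ1, -, hχz, -, -⟩ := (Cfsg.Agent.S2434.result hodd C hcyc hcard).1 θ
    ⟨γ, fun h => by
      rw [hθγ] at h
      have h3 := orderOf_dvd_of_pow_eq_one h
      rw [hζ] at h3
      have := Nat.le_of_dvd (by norm_num) h3
      omega⟩
  have hzC : ∀ z ∈ Subgroup.center SL, z ∈ C := fun z hz =>
    Subgroup.mem_centralizer_singleton_iff.2 (Subgroup.mem_center_iff.1 hz g).symm
  obtain ⟨χ', h2, h3⟩ := exists_psl hχ (fun z hz => by
    have h4 := hχz ⟨z, hzC z hz⟩ hz 1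
    rw [mul_one] at h4
    have h5 : θ ⟨z, hzC z hz⟩ = 1 := by
      refine eq_one_of_sq_of_odd ?_ hmodd (hθm _)
      rw [← map_pow, sq]
      have : (⟨z, hzC z hz⟩ * ⟨z, hzC z hz⟩ : C) = 1 := Subtype.ext (center_sq hz)
      rw [this, map_one]
    rw [h4, h5]
    simp)
  refine ⟨χ', h2, ?_, ?_⟩
  · intro x
    obtain ⟨M, rfl⟩ := QuotientGroup.mk_surjective x
    rw [h3]
    obtain ⟨P, hP⟩ := real_sl hi M
    have h4 : χ M⁻¹ = χ M := by
      rw [← hP]
      exact isIrr_isClassFunction hχ M P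
    have h5 := isCharacter_apply_inv (isIrr_isCharacter hχ) M
    rw [← h5, h4]
  · have h4 : χ' 1 = (Fintype.card F : ℂ) - 1 := by
      rw [← hχ1, ← h3]
      rfl
    have h6 := Cfsg.Agent.Blocks.Basic.irr_one_eq_charDegree h2
    rw [h4] at h6
    have h7 : ((Fintype.card F - 1 : ℕ) : ℂ) = (charDegree χ' : ℂ) := by
      rw [← h6, Nat.cast_sub (by omega), Nat.cast_one]
    exact_mod_cast h7.symm

/-- A real character of degree `q + 1` for `q ≡ 3 mod 4`. -/
theorem exists_plus (h1 : Fintype.card F % 4 = 3) (h5 : 5 ≤ Fintype.card F) :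
    ∃ χ : Matrix.ProjectiveSpecialLinearGroup (Fin 2) F → ℂ,
      IsIrrCharacter (Matrix.ProjectiveSpecialLinearGroup (Fin 2) F) χ ∧
      (∀ g, conj (χ g) = χ g) ∧ charDegree χ = Fintype.card F + 1 := by
  classical
  have hodd : Odd (Fintype.card F) := Nat.odd_iff.2 (by omega)
  set m := (Fintype.card F - 1) / 2 with hm
  have hm2 : Fintype.card F - 1 = m * 2 := by omega
  have hmodd : Odd m := Nat.odd_iff.2 (by omega)
  obtain ⟨α, hα⟩ := MulChar.exists_mulChar_orderOf F (n := m) (by rw [hm2]; exact dvd_mul_right _ _)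
    (Complex.isPrimitiveRoot_exp m (by omega))
  have hα2 : α ^ 2 ≠ 1 := by
    intro h
    have h3 := orderOf_dvd_of_pow_eq_one h
    rw [hα] at h3
    have := Nat.le_of_dvd (by norm_num) h3
    omega
  have hα1 : ∀ r : F, r * r = 1 → α r = 1 := by
    intro r hr
    refine eq_one_of_sq_of_odd (m := m) ?_ hmodd ?_
    · rw [← map_pow, sq, hr, map_one]
    · have h2 : α ^ m = 1 := by rw [← hα, pow_orderOf_eq_one]
      have hr0 : r ≠ 0 := by
        rintro rfl
        rw [mul_zero] at hr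
        exact zero_ne_one hr
      have h3 : (α ^ m) r = (1 : MulChar F ℂ) r := by rw [h2]
      rw [MulChar.pow_apply' α (by omega), MulChar.one_apply (isUnit_iff_ne_zero.2 hr0)] at h3
      exact h3
  set B := (Cfsg.upperTriangularGL 2 F).comap Matrix.SpecialLinearGroup.toGL with hB
  set R : MulChar F ℂ → SL → ℂ := fun β => Cfsg.indFun B
    (fun b => β (((b : SL) : Matrix (Fin 2) (Fin 2) F) 0 0)) with hR
  have hRα : IsIrrCharacter SL (R α) := (Cfsg.Agent.S2306.result α).2 hα2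
  have hRα' : IsIrrCharacter SL (R α⁻¹) := (Cfsg.Agent.S2306.result α⁻¹).2 (by
    rw [inv_pow]
    exact fun h => hα2 (inv_eq_one.1 h))
  have hRe : R α = R α⁻¹ := by
    by_contra hne
    have h2 := classInner_irr_ne hRα hRα' hne
    have h3 := Cfsg.Agent.S2432.result hodd α α⁻¹
    have h4 : (α = α⁻¹⁻¹) = True := by simp
    change classInner (R α) (R α⁻¹) = _ at h3
    rw [h2] at h3
    simp only [inv_inv, if_true] at h3
    split_ifs at h3 <;> norm_num at h3
  have hind : ∀ g : SL, R α g = (Nat.card B : ℂ)⁻¹ * ∑ x : SL, extendByZero B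
      (fun b => α (((b : SL) : Matrix (Fin 2) (Fin 2) F) 0 0)) (x⁻¹ * g * x) := fun g => by
    rw [hR]
    exact indFun_apply _ _ _
  have hval : ∀ z ∈ Subgroup.center SL, R α z = (Fintype.card F : ℂ) + 1 := by
    intro z hz
    obtain ⟨r, hr, hrz⟩ := Matrix.SpecialLinearGroup.mem_center_iff.1 hz
    have e1 : (z : Matrix (Fin 2) (Fin 2) F) 0 0 = r := by rw [← hrz]; simp
    have e2 : (z : Matrix (Fin 2) (Fin 2) F) 0 1 = 0 := by rw [← hrz]; simp
    have e3 : (z : Matrix (Fin 2) (Fin 2) F) 1 0 = 0 := by rw [← hrz]; simp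
    have e4 : (z : Matrix (Fin 2) (Fin 2) F) 1 1 = r := by rw [← hrz]; simp
    have h2 := (Cfsg.Agent.S2433.result hodd α z).2.2.2 e2 e3 (e1.trans e4.symm)
    refine h2.trans ?_
    rw [e1, hα1 r (by rw [Fintype.card_fin] at hr; rw [← sq]; exact hr), mul_one]
  have hz : ∀ z ∈ Subgroup.center SL, R α z = R α 1 := fun z hz =>
    (hval z hz).trans (hval 1 (Subgroup.one_mem _)).symm
  have hreal : ∀ g : SL, conj (R α g) = R α g := by
    intro g
    conv_rhs => rw [hRe]
    rw [hind, map_mul, map_inv₀, Complex.conj_natCast, map_sum]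
    have h2 : R α⁻¹ g = (Nat.card B : ℂ)⁻¹ * ∑ x : SL, extendByZero B
        (fun b => α⁻¹ (((b : SL) : Matrix (Fin 2) (Fin 2) F) 0 0)) (x⁻¹ * g * x) := by
      rw [hR]
      exact indFun_apply _ _ _
    rw [h2]
    congr 1
    refine Finset.sum_congr rfl fun x _ => ?_
    by_cases hx : x⁻¹ * g * x ∈ B
    · rw [extendByZero_of_mem B _ hx, extendByZero_of_mem B _ hx]
      show conj (α _) = α⁻¹ _
      rw [← MulChar.star_apply' α]
      rfl
    · rw [extendByZero_of_notMem B _ hx, extendByZero_of_notMem B _ hx, map_zero]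
  obtain ⟨χ', h2, h3⟩ := exists_psl hRα hz
  refine ⟨χ', h2, ?_, ?_⟩
  · intro x
    obtain ⟨M, rfl⟩ := QuotientGroup.mk_surjective x
    rw [h3]
    exact hreal M
  · have h4 : χ' 1 = (Fintype.card F : ℂ) + 1 := by
      have h5 : χ' 1 = R α 1 := by
        rw [← h3]
        rfl
      rw [h5, hval 1 (Subgroup.one_mem _)]
    have h6 := Cfsg.Agent.Blocks.Basic.irr_one_eq_charDegree h2
    rw [h4] at h6
    exact_mod_cast h6.symm

theorem center_eq_bot {S : Type*} [Group S] [IsSimpleGroup S] (hS : ¬ IsMulCommutative S) :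
    Subgroup.center S = ⊥ := by
  rcases (inferInstance : (Subgroup.center S).Normal).eq_bot_or_eq_top with h | h
  · exact h
  · refine absurd ⟨⟨fun a b => ?_⟩⟩ hS
    have : b ∈ Subgroup.center S := by rw [h]; exact Subgroup.mem_top b
    exact Subgroup.mem_center_iff.1 this a

/-- **The row of `PSL(2, q)`, `q` odd.** -/
theorem orthRow_psl2 (hodd : Odd (Fintype.card F)) (h5 : 5 ≤ Fintype.card F)
    (hc : Subgroup.center (Matrix.ProjectiveSpecialLinearGroup (Fin 2) F) = ⊥) :
    OrthRow (Matrix.ProjectiveSpecialLinearGroup (Fin 2) F) := by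
  have hcard := Cfsg.Agent.SmallSimple.PSLTwoPart.card_psl_two_odd hodd
  haveI : Finite (Matrix.ProjectiveSpecialLinearGroup (Fin 2) F) :=
    Finite.of_surjective _ (QuotientGroup.mk'_surjective _)
  set N := Nat.card (Matrix.ProjectiveSpecialLinearGroup (Fin 2) F) with hN
  have hdvd : 2 ^ N.factorization 2 ∣ N := Nat.ordProj_dvd N 2
  have hsq : Fintype.card F ^ 2 - 1 = (Fintype.card F - 1) * (Fintype.card F + 1) := by
    have := Nat.sq_sub_sq (Fintype.card F) 1
    rw [one_pow] at this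
    rw [this, mul_comm]
  have hq2 := Nat.odd_iff.1 hodd
  rcases (show Fintype.card F % 4 = 1 ∨ Fintype.card F % 4 = 3 by omega) with h4 | h4
  · obtain ⟨χ, h1, h2, h3⟩ := exists_minus h4 h5
    have h6 : 4 ≤ charDegree χ := by rw [h3]; omega
    refine ⟨χ, h1, by rw [h3, Nat.even_iff]; omega, h6, ?_, ?_⟩
    · intro h60
      have h7 : Fintype.card F ≠ 5 := by
        intro h
        rw [h] at hcard
        exact h60 (by omega)
      rw [h3]
      omega
    · refine oext_of_defect_zero hc h1 h2 ?_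
      rw [h3]
      obtain ⟨k, hk⟩ : ∃ k, Fintype.card F + 1 = 2 * k := ⟨(Fintype.card F + 1) / 2, by omega⟩
      have hko : Odd k := Nat.odd_iff.2 (by omega)
      have h8 : N = (Fintype.card F - 1) * (Fintype.card F * k) := by
        have h9 : 2 * N = 2 * ((Fintype.card F - 1) * (Fintype.card F * k)) := by
          rw [hcard, hsq, hk]
          ring
        omega
      refine Nat.Coprime.dvd_of_dvd_mul_right ?_ (by rw [← h8]; exact hdvd)
      exact Nat.Coprime.pow_left _ (Nat.coprime_two_left.2 (hodd.mul hko))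
  · obtain ⟨χ, h1, h2, h3⟩ := exists_plus h4 h5
    have h6 : 8 ≤ charDegree χ := by rw [h3]; omega
    refine ⟨χ, h1, by rw [h3, Nat.even_iff]; omega, by omega, fun _ => h6, ?_⟩
    refine oext_of_defect_zero hc h1 h2 ?_
    rw [h3]
    obtain ⟨k, hk⟩ : ∃ k, Fintype.card F - 1 = 2 * k := ⟨(Fintype.card F - 1) / 2, by omega⟩
    have hko : Odd k := Nat.odd_iff.2 (by omega)
    have h8 : N = (Fintype.card F + 1) * (Fintype.card F * k) := by
      have h9 : 2 * N = 2 * ((Fintype.card F + 1) * (Fintype.card F * k)) := by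
        rw [hcard, hsq, hk]
        ring
      omega
    refine Nat.Coprime.dvd_of_dvd_mul_right ?_ (by rw [← h8]; exact hdvd)
    exact Nat.Coprime.pow_left _ (Nat.coprime_two_left.2 (hodd.mul hko))

end

end Cfsg.Agent.H727.Orth
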