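import Cfsg.Agent.H727.Orth.St
import Cfsg.Agent.H727.Orth.PSL2
import Cfsg.Agent.S0204
import Cfsg.Agent.S0506
import Cfsg.Agent.S0493
import Cfsg.Agent.H979.LieSplit

/-!
# The two-part of the order; the row of characteristic two
-/

set_option autoImplicit false
set_option linter.unusedSectionVars false

namespace Cfsg.Agent.H727.Orth

open Cfsg

universe u v

theorem four_dvd {S : Type u} [Group S] [Finite S] [IsSimpleGroup S] (hS : ¬ IsMulCommutative S) :
    4 ∣ Nat.card S := by
  have hcyc : ¬ IsCyclic S := by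
    intro h
    exact hS ⟨⟨fun a b => (IsCyclic.commGroup (α := S)).mul_comm a b⟩⟩
  obtain ⟨E, hE⟩ := Cfsg.Agent.S0204.result hcyc
  have h1 : Nat.card E = 4 := hE.card_four
  rw [← h1]
  exact Subgroup.card_subgroup_dvd_card E

/-- Simple groups of order not divisible by eight. -/
theorem eight_dvd_or {S : Type u} [Group S] [Finite S] [IsSimpleGroup S]
    (hS : ¬ IsMulCommutative S) : 8 ∣ Nat.card S ∨ Nat.card S = 60 ∨
      ∃ (F : Type) (_ : Field F) (_ : Fintype F), Odd (Fintype.card F) ∧ 5 ≤ Fintype.card F ∧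
        Nonempty (S ≃* Matrix.ProjectiveSpecialLinearGroup (Fin 2) F) := by
  have : Fact (Nat.Prime 2) := ⟨Nat.prime_two⟩
  by_cases h8 : 8 ∣ Nat.card S
  · exact Or.inl h8
  right
  have h4 := four_dvd hS
  let P : Sylow 2 S := default
  have hP : Nat.card P = 2 ^ (Nat.card S).factorization 2 := P.card_eq_multiplicity
  have hpos : Nat.card S ≠ 0 := Nat.card_pos.ne'
  have hf : (Nat.card S).factorization 2 = 2 := by
    have h1 := (Nat.Prime.pow_dvd_iff_le_factorization Nat.prime_two (k := 2) hpos).1 h4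
    have h2 : ¬ 3 ≤ (Nat.card S).factorization 2 := fun h =>
      h8 ((Nat.Prime.pow_dvd_iff_le_factorization Nat.prime_two (k := 3) hpos).2 h)
    omega
  rw [hf] at hP
  have hcomm : IsMulCommutative (P : Subgroup S) :=
    ⟨⟨(IsPGroup.commGroupOfCardEqPrimeSq hP).mul_comm⟩⟩
  rcases Cfsg.Agent.S0506.result hS P hcomm with ⟨a, ha, F, _, _, hF, ⟨e⟩⟩ |
    ⟨F, _, _, hF, ⟨e⟩⟩ | h | h
  · left
    have hc := Cfsg.Agent.SmallSimple.PSLTwoPart.card_psl_two_even (F := F)
      (by rw [hF]; exact (Nat.even_pow.2 ⟨even_two, by omega⟩))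
    rw [← Nat.card_congr e.toEquiv, hF] at hc
    have ha2 : a = 2 := by
      by_contra hne
      apply h8
      rw [hc]
      exact dvd_mul_of_dvd_left (pow_dvd_pow 2 (show 3 ≤ a by omega)) _
    rw [ha2] at hc
    rw [hc]
    norm_num
  · right
    have h1 : 5 ≤ Fintype.card F := by
      by_contra hlt
      have h3 : Fintype.card F = 3 := by omega
      have hc := Cfsg.Agent.SmallSimple.PSLTwoPart.card_psl_two_odd (F := F) (by rw [h3]; decide)
      rw [← Nat.card_congr e.toEquiv, h3] at hc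
      have h12 : Nat.card S = 12 := by omega
      have hcyc : ¬ IsCyclic S := by
        intro h
        exact hS ⟨⟨fun a b => (IsCyclic.commGroup (α := S)).mul_comm a b⟩⟩
      have := Cfsg.Agent.S0493.result hcyc (by omega)
      omega
    exact ⟨F, _, _, Nat.odd_iff.2 (by omega), h1, ⟨e⟩⟩
  · exfalso
    apply h8
    obtain ⟨-, m, hm, hc⟩ := h
    rw [hc]
    have h3 : 3 ^ (2 * m + 1) % 8 = 3 := by
      rw [pow_succ, pow_mul, Nat.mul_mod, Nat.pow_mod]
      norm_num
    set q := 3 ^ (2 * m + 1) with hq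
    have h4' : 4 ∣ q ^ 3 + 1 := by
      have : (q ^ 3 + 1) % 4 = 0 := by
        have h5 : q % 4 = 3 := by omega
        rw [Nat.add_mod, Nat.pow_mod, h5]
      omega
    have h2' : 2 ∣ q - 1 := by omega
    have h6 : 8 = 4 * 2 := by norm_num
    rw [h6, mul_assoc]
    exact dvd_mul_of_dvd_right (Nat.mul_dvd_mul h4' h2') _
  · exfalso
    apply h8
    rw [h.2]
    decide

/-- **The row of characteristic two.** -/
theorem orthRow_lie_two {S : Type u} [Group S] [Finite S] [IsSimpleGroup S]
    (hS : ¬ IsMulCommutative S) (h : IsLieTypeChar 2 S) : OrthRow S := by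
  have hc := center_eq_bot hS
  rcases eight_dvd_or hS with h8 | h60 | ⟨F, _, _, hodd, h5, ⟨e⟩⟩
  · exact orthRow_of_hasSplit hc (H979.LieSplit.hasSplit_of_isLieTypeChar Nat.prime_two h)
      (four_dvd hS) (fun _ => h8)
  · exact orthRow_of_hasSplit hc (H979.LieSplit.hasSplit_of_isLieTypeChar Nat.prime_two h)
      (four_dvd hS) (fun h' => absurd h60 h')
  · have : Finite (Matrix.ProjectiveSpecialLinearGroup (Fin 2) F) := Finite.of_equiv S e.toEquiv
    have hs : IsSimpleGroup (Matrix.ProjectiveSpecialLinearGroup (Fin 2) F) :=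
      MulEquiv.isSimpleGroup e.symm
    refine (orthRow_psl2 hodd h5 (center_eq_bot ?_)).congr e.symm
    rintro ⟨⟨h⟩⟩
    refine hS ⟨⟨fun a b => e.injective ?_⟩⟩
    rw [map_mul, map_mul]
    exact h _ _

end Cfsg.Agent.H727.Orth
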