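import Cfsg.Agent.H727.Orth.Loc
import Cfsg.Agent.H694.DGood
import Cfsg.Agent.S4872

/-!
# Rows for the even-degree orthogonal character theorem

`EvenO S`: some irreducible character of indicator one and even degree extends to a character of
indicator one of its stabilizer. `Deg8 S`: the irreducible characters of even degree have degree `≥ 8`.
* `evenO_of_dData`, `evenO_of_classes`, `evenO_of_single`, `evenO_of_out_odd`, `oext_of_defect_zero`.
-/

set_option autoImplicit false
set_option linter.unusedSectionVars false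
set_option linter.style.haveILetI false

namespace Cfsg.Agent.H727.Orth

open Cfsg
open scoped ComplexConjugate
open Cfsg.Agent.Characters.Core
open Cfsg.Agent.H705.StrongLin (ind ind_eq real_of_ind)
open Cfsg.Agent.H694 (mu mu_eq irr_mu_spec RChar rchar_irr odd_relIndex permC rchar_perm permC_one
  classInner_permC DData pairRel actN card_orbits)

universe u v

/-- Some even-degree irreducible character of indicator one extends to its stabilizer. -/
def EvenO (S : Type u) [Group S] : Prop :=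
  ∃ θ : S → ℂ, IsIrrCharacter S θ ∧ ind θ = 1 ∧ Even (charDegree θ) ∧ OExt θ

/-- The irreducible characters of even degree have degree at least eight. -/
def Deg8 (S : Type u) [Group S] : Prop :=
  ∀ θ : S → ℂ, IsIrrCharacter S θ → Even (charDegree θ) → 8 ≤ charDegree θ

theorem EvenO.orthRow {S : Type u} [Group S] (h : EvenO S) (hd : Deg8 S) : OrthRow S := by
  obtain ⟨θ, h1, -, h3, h4⟩ := h
  have h5 := hd θ h1 h3
  exact ⟨θ, h1, h3, by omega, fun _ => h5, h4⟩

section congr

variable {S : Type u} [Group S] {T : Type v} [Group T]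

/-- stabilizers correspond -/
def stabEquiv (e : S ≃* T) (θ : T → ℂ) : stab θ ≃* stab (fun s => θ (e s)) where
  toFun a := ⟨MulAut.congr e.symm a, fun s => by
    show θ (e (e.symm ((a : MulAut T) (e s)))) = θ (e s)
    rw [MulEquiv.apply_symm_apply]
    exact a.2 (e s)⟩
  invFun a := ⟨MulAut.congr e a, fun t => by
    show θ (e ((a : MulAut S) (e.symm t))) = θ t
    have : θ (e ((a : MulAut S) (e.symm t))) = θ (e (e.symm t)) := a.2 (e.symm t)
    rw [this, MulEquiv.apply_symm_apply]⟩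
  left_inv a := Subtype.ext (by
    ext t
    show e (e.symm ((a : MulAut T) (e (e.symm t)))) = _
    simp)
  right_inv a := Subtype.ext (by
    ext t
    show e.symm (e ((a : MulAut S) (e.symm (e t)))) = _
    simp)
  map_mul' a b := Subtype.ext (map_mul _ _ _)

theorem ind_mulEquiv [Finite S] [Finite T] (e : S ≃* T) (θ : T → ℂ) : ind (fun s => θ (e s)) = ind θ := by
  have := Fintype.ofFinite S
  have := Fintype.ofFinite T
  rw [ind_eq, ind_eq, Nat.card_congr e.toEquiv]
  congr 1
  refine Fintype.sum_equiv e.toEquiv _ _ fun n => ?_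
  show θ _ = θ _
  congr 1
  exact map_mul e n n

theorem OExt.congr [Finite S] [Finite T] (e : S ≃* T) {θ : T → ℂ} (h : OExt (fun s => θ (e s))) :
    OExt θ := by
  obtain ⟨χ, h1, h2, h3⟩ := h
  refine ⟨fun a => χ (stabEquiv e θ a), isIrr_comp (stabEquiv e θ).toMonoidHom
    (stabEquiv e θ).surjective h1, ?_, ?_⟩
  · rw [ind_mulEquiv (stabEquiv e θ) χ]
    exact h2
  · intro t ht
    obtain ⟨s, rfl⟩ := e.surjective t
    have h4 : (stabEquiv e θ ⟨MulAut.conj (e s), ht⟩ : MulAut S) = MulAut.conj s := by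
      ext x
      show e.symm (MulAut.conj (e s) (e x)) = MulAut.conj s x
      rw [MulAut.conj_apply, MulAut.conj_apply, ← map_inv, ← map_mul, ← map_mul, MulEquiv.symm_apply_apply]
    have h5 : MulAut.conj s ∈ stab (fun s => θ (e s)) := by
      rw [← h4]
      exact (stabEquiv e θ ⟨MulAut.conj (e s), ht⟩).2
    have h6 : χ ⟨MulAut.conj s, h5⟩ = θ (e s) := h3 s h5
    rw [← h6]
    show χ (stabEquiv e θ ⟨MulAut.conj (e s), ht⟩) = _
    congr 1
    exact Subtype.ext h4

theorem charDegree_mulEquiv (e : S ≃* T) (θ : T → ℂ) :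
    charDegree (fun s => θ (e s)) = charDegree θ := by
  rw [charDegree, charDegree, map_one]

theorem OExt.congr' [Finite S] [Finite T] (e : S ≃* T) {θ : S → ℂ} (h : OExt θ) :
    OExt (fun t => θ (e.symm t)) := by
  refine OExt.congr e ?_
  have : (fun s => θ (e.symm (e s))) = θ := funext fun s => by rw [MulEquiv.symm_apply_apply]
  rw [this]
  exact h

theorem EvenO.congr [Finite S] [Finite T] (e : S ≃* T) (h : EvenO S) : EvenO T := by
  obtain ⟨θ, h1, h2, h3, h4⟩ := h
  refine ⟨fun t => θ (e.symm t), isIrr_comp e.symm.toMonoidHom e.symm.surjective h1, ?_, ?_,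
    h4.congr' e⟩
  · rw [ind_mulEquiv e.symm θ]
    exact h2
  · rw [charDegree_mulEquiv e.symm θ]
    exact h3

theorem OrthRow.congr [Finite S] [Finite T] (e : S ≃* T) (h : OrthRow S) : OrthRow T := by
  obtain ⟨θ, h1, h2, h3, h4, h5⟩ := h
  refine ⟨fun t => θ (e.symm t), isIrr_comp e.symm.toMonoidHom e.symm.surjective h1, ?_, ?_, ?_,
    h5.congr' e⟩
  · rw [charDegree_mulEquiv e.symm θ]
    exact h2
  · rw [charDegree_mulEquiv e.symm θ]
    exact h3
  · rw [charDegree_mulEquiv e.symm θ, ← Nat.card_congr e.toEquiv]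
    exact h4

theorem Deg8.congr (e : S ≃* T) (h : Deg8 S) : Deg8 T := by
  intro θ h1 h2
  have := h (fun s => θ (e s)) (isIrr_comp e.toMonoidHom e.surjective h1)
    (by rw [charDegree_mulEquiv e θ]; exact h2)
  rwa [charDegree_mulEquiv e θ] at this

end congr

/-- **The reduction to rows.** -/
theorem of_row {S : Type u} [Group S] [Finite S] (h : OrthRow S) :
    ∃ θ : Cfsg.IrrCharacter S, 2 ∣ Cfsg.charDegree (θ : S → ℂ) ∧ 4 ≤ Cfsg.charDegree (θ : S → ℂ) ∧
      (Nat.card S ≠ 60 → 8 ≤ Cfsg.charDegree (θ : S → ℂ)) ∧ ∀ I : Subgroup (MulAut S),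
        (∀ a : MulAut S, a ∈ I ↔ ∀ s : S, (θ : S → ℂ) (a s) = (θ : S → ℂ) s) →
        ∀ hI : (MulAut.conj : S →* MulAut S).range ≤ I, ∃ ψ : Cfsg.IrrCharacter ↥I,
          (Nat.card ↥I : ℂ)⁻¹ * ∑ᶠ g : ↥I, (ψ : ↥I → ℂ) (g * g) = 1 ∧
          ∀ s : S, (ψ : ↥I → ℂ) (Subgroup.inclusion hI ⟨MulAut.conj s, ⟨s, rfl⟩⟩) = (θ : S → ℂ) s := by
  obtain ⟨θ, h1, h2, h3, h4, χ, h5, h6, h7⟩ := h
  refine ⟨⟨θ, h1⟩, even_iff_two_dvd.1 h2, h3, h4, fun I hI hN => ?_⟩
  obtain rfl : I = stab θ := by
    ext a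
    rw [hI, mem_stab]
  refine ⟨⟨χ, h5⟩, ?_, fun s => h7 s _⟩
  haveI := Fintype.ofFinite (stab θ)
  rw [ind_eq] at h6
  rw [finsum_eq_sum_of_fintype]
  exact h6

variable {S : Type u} [Group S] [Finite S]

/-! ### Permutation characters -/

/-- the action of automorphisms on an invariant set of subgroups -/
@[reducible] def actAut (𝒳 : Set (Subgroup S)) (h : ∀ α : S ≃* S, ∀ H ∈ 𝒳, H.map α.toMonoidHom ∈ 𝒳) :
    MulAction (MulAut S) 𝒳 where
  smul a H := ⟨(H : Subgroup S).map (a : S ≃* S).toMonoidHom, h a _ H.2⟩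
  one_smul H := Subtype.ext (Subgroup.map_id _)
  mul_smul a b H := Subtype.ext (by
    show (H : Subgroup S).map ((a * b : MulAut S) : S ≃* S).toMonoidHom =
      ((H : Subgroup S).map (b : S ≃* S).toMonoidHom).map (a : S ≃* S).toMonoidHom
    rw [Subgroup.map_map]
    rfl)

theorem evenO_of_dData (hc : Subgroup.center S = ⊥) (h : DData S) : EvenO S := by
  classical
  haveI := Fintype.ofFinite S
  haveI := Fintype.ofFinite (MulAut S)
  obtain ⟨𝒳, h𝒳, hodd⟩ := h
  letI := actAut 𝒳 h𝒳
  haveI : Finite 𝒳 := Subtype.finite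
  have hXN : ∀ g : S, ∀ H ∈ 𝒳, H.map (MulAut.conj g).toMonoidHom ∈ 𝒳 := fun g H hH =>
    h𝒳 (MulAut.conj g) H hH
  have hπ : RChar (permC (MulAut S) 𝒳) := rchar_perm 𝒳
  haveI : Fintype (⊤ : Subgroup (MulAut S)) := Fintype.ofFinite _
  have hπ' : RChar (fun x : (⊤ : Subgroup (MulAut S)) => permC (MulAut S) 𝒳 (x : MulAut S)) :=
    hπ.comp (Subgroup.subtype ⊤)
  -- conjugation in `S` on the subgroups of `S`, through the trivial normal subgroup structure
  let A : MulAction S 𝒳 :=
    { smul := fun s H => ⟨(H : Subgroup S).map (MulAut.conj s).toMonoidHom, hXN s _ H.2⟩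
      one_smul := fun H => Subtype.ext (H694.map_conj_one _)
      mul_smul := fun s t H => Subtype.ext (H694.map_conj_conj t s _).symm }
  have hres : (fun s : S => permC (MulAut S) 𝒳 (MulAut.conj s)) = @permC S _ 𝒳 A := by
    funext s
    rfl
  have hcard : Nat.card (@MulAction.orbitRel.Quotient S (𝒳 × 𝒳) _ (@Prod.mulAction S 𝒳 𝒳 _ A A)) =
      Nat.card (Quotient (pairRel 𝒳 𝒳)) := by
    refine Nat.card_congr (Quotient.congr (Equiv.refl _) fun x y => ?_)
    rw [Equiv.refl_apply, Equiv.refl_apply]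
    have h4 : (@MulAction.orbitRel S (𝒳 × 𝒳) _ (@Prod.mulAction S 𝒳 𝒳 _ A A)) x y ↔
        (pairRel 𝒳 𝒳) x y := by
      rw [MulAction.orbitRel_apply]
      constructor
      · rintro ⟨n, hn⟩
        apply (pairRel 𝒳 𝒳).symm
        refine ⟨n, ?_, ?_⟩
        · rw [← hn]
          rfl
        · rw [← hn]
          rfl
      · intro h5
        obtain ⟨g, h6, h7⟩ := (pairRel 𝒳 𝒳).symm h5
        exact ⟨g, Prod.ext (Subtype.ext h6) (Subtype.ext h7)⟩
    exact h4
  obtain ⟨θ, h1, h2, h3, -, h5⟩ := oext_of_parity hc ⊤ (by rw [Subgroup.index_top]; exact odd_one)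
    (fun s => Subgroup.mem_top _) hπ' (a := (Nat.card (Quotient (pairRel 𝒳 𝒳)) : ℤ))
    (b := (Nat.card 𝒳 : ℤ)) (by
      show classInner (fun s : S => permC (MulAut S) 𝒳 (MulAut.conj s))
        (fun s : S => permC (MulAut S) 𝒳 (MulAut.conj s)) = _
      rw [hres]
      have h6 := @classInner_permC S _ _ 𝒳 𝒳 _ _ A A
      rw [h6, hcard]
      exact (Int.cast_natCast _).symm) (by
      show permC (MulAut S) 𝒳 1 = _
      rw [permC_one]
      push_cast
      rfl) (by rw [add_comm]; exact_mod_cast hodd)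
  exact ⟨θ, h1, h2, h3, h5⟩

/-! ### Odd outer automorphism groups -/

theorem evenO_of_out_odd (hc : Subgroup.center S = ⊥)
    (ho : Odd (MulAut.conj : S →* MulAut S).range.index) {θ : S → ℂ} (h1 : IsIrrCharacter S θ)
    (h2 : ind θ = 1) (h3 : Even (charDegree θ)) : EvenO S := by
  classical
  haveI := Fintype.ofFinite S
  haveI := Fintype.ofFinite (MulAut S)
  set J : Subgroup (MulAut S) := (MulAut.conj : S →* MulAut S).range with hJ
  haveI := Fintype.ofFinite J
  have hNJ : ∀ s : S, MulAut.conj s ∈ J := fun s => ⟨s, rfl⟩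
  set χ : J → ℂ := fun n => θ ((innEquiv hc).symm n) with hχ
  have hχi : IsIrrCharacter J χ :=
    isIrr_comp (innEquiv hc).symm.toMonoidHom (innEquiv hc).symm.surjective h1
  have hχe : (fun s : S => χ ⟨MulAut.conj s, hNJ s⟩) = θ := by
    funext s
    show θ ((innEquiv hc).symm (innEquiv hc s)) = θ s
    rw [MulEquiv.symm_apply_apply]
  have hind : ind χ = 1 := by
    rw [← ind_inn hc χ]
    have : (fun s => χ (innEquiv hc s)) = θ := hχe
    rw [this]
    exact h2
  refine ⟨θ, h1, h2, h3, oext_of_real hc h1 h2 J hNJ (rchar_irr hχi hind) ?_ ?_⟩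
  · rw [hχe]
    have : mu θ θ = 1 := mu_eq (by rw [classInner_irr_self h1]; norm_num)
    rw [this]
    exact odd_one
  · have hle : J ≤ stab θ := by
      rintro _ ⟨s, rfl⟩
      exact conj_mem_stab (isIrr_isClassFunction h1) s
    have h4 : J.relIndex (stab θ) ∣ J.index := by
      rw [← Subgroup.relIndex_mul_index hle]
      exact dvd_mul_right _ _
    exact ho.of_dvd_nat h4

/-! ### Classes of real elements of odd order -/

/-- An odd number of classes in an invariant set of elements with local data. -/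
theorem evenO_of_classes (hc : Subgroup.center S = ⊥) (Y : Set S)
    (hY : ∀ a : MulAut S, ∀ y ∈ Y, a y ∈ Y) (hL : ∀ y ∈ Y, ∃ K, LocS y K)
    (hodd : Odd (Nat.card {c : ConjClasses S // ∃ y ∈ Y, c = ConjClasses.mk y})) : EvenO S := by
  classical
  haveI : Fact (Nat.Prime 2) := ⟨Nat.prime_two⟩
  let P : Sylow 2 (MulAut S) := default
  let X := {c : ConjClasses S // ∃ y ∈ Y, c = ConjClasses.mk y}
  let act : MulAction P X :=
    { smul := fun a c => ⟨ConjClasses.map ((a : MulAut S) : S ≃* S).toMonoidHom c.1, by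
        obtain ⟨y, hy, hcy⟩ := c.2
        exact ⟨(a : MulAut S) y, hY _ _ hy, by rw [hcy]; rfl⟩⟩
      one_smul := fun c => Subtype.ext (by
        obtain ⟨c, y, hy, rfl⟩ := c
        rfl)
      mul_smul := fun a b c => Subtype.ext (by
        obtain ⟨c, y, hy, rfl⟩ := c
        rfl) }
  have h1 := P.2.card_modEq_card_fixedPoints X
  have h2 : Odd (Nat.card (MulAction.fixedPoints P X)) := by
    rw [Nat.odd_iff] at hodd ⊢
    rw [← hodd]
    exact h1.symm
  obtain ⟨c, hcf⟩ : (MulAction.fixedPoints P X).Nonempty := by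
    rw [Set.nonempty_iff_ne_empty]
    intro h3
    rw [h3] at h2
    simp at h2
  obtain ⟨c, y, hy, rfl⟩ := c
  obtain ⟨K, L⟩ := hL y hy
  refine oext_of_loc hc L (P : Subgroup (MulAut S)) ?_ ?_
  · have := P.not_dvd_index
    exact Nat.odd_iff.2 (by omega)
  · intro g hg
    have h4 : (⟨g, hg⟩ : P) • (⟨ConjClasses.mk y, y, hy, rfl⟩ : X) = _ := hcf _
    have h5 : ConjClasses.mk (g y) = ConjClasses.mk y := congrArg Subtype.val h4
    rw [ConjClasses.mk_eq_mk_iff_isConj] at h5
    obtain ⟨s, hs⟩ := isConj_iff.1 h5.symm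
    exact ⟨s, Or.inl hs.symm⟩

/-- Elements whose centralizer has odd order. -/
theorem locS_of_odd {y : S} (h1 : y ≠ 1) (hr : IsConj y y⁻¹)
    (ho : Odd (Nat.card (Subgroup.centralizer {y}))) : LocS y ⊥ where
  ne := h1
  odd := by
    have h2 : orderOf y ∣ Nat.card (Subgroup.centralizer {y}) := by
      have h3 := orderOf_dvd_natCard
        (⟨y, Subgroup.mem_centralizer_singleton_iff.2 rfl⟩ : Subgroup.centralizer {y})
      rwa [Subgroup.orderOf_mk] at h3
    exact ho.of_dvd_nat h2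
  real := by
    obtain ⟨n, hn⟩ := isConj_iff.1 hr
    exact ⟨n, hn⟩
  comm := by
    intro k hk
    rw [Subgroup.mem_bot.1 hk, one_mul, mul_one]
  cop := by
    rw [Subgroup.card_bot]
    exact Nat.coprime_one_left _
  idx := by
    rw [Subgroup.relIndex_bot_left]
    exact ho
  st := by
    intro α _ k hk
    rw [Subgroup.mem_bot.1 hk, map_one]
    exact Subgroup.one_mem _

/-- An odd number of classes of real elements with centralizer of odd order. -/
theorem evenO_of_odd_classes (hc : Subgroup.center S = ⊥) (Y : Set S)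
    (hY : ∀ a : MulAut S, ∀ y ∈ Y, a y ∈ Y)
    (hL : ∀ y ∈ Y, y ≠ 1 ∧ IsConj y y⁻¹ ∧ Odd (Nat.card (Subgroup.centralizer {y})))
    (hodd : Odd (Nat.card {c : ConjClasses S // ∃ y ∈ Y, c = ConjClasses.mk y})) : EvenO S :=
  evenO_of_classes hc Y hY (fun y hy => ⟨⊥, locS_of_odd (hL y hy).1 (hL y hy).2.1 (hL y hy).2.2⟩) hodd

/-! ### Characters of defect zero -/

/-- Real characters of `2`-defect zero. -/
theorem oext_of_defect_zero (hc : Subgroup.center S = ⊥) {θ : S → ℂ} (h1 : IsIrrCharacter S θ)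
    (hr : ∀ s, conj (θ s) = θ s) (hd : 2 ^ (Nat.card S).factorization 2 ∣ charDegree θ) : OExt θ := by
  classical
  haveI := Fintype.ofFinite S
  haveI : Fact (Nat.Prime 2) := ⟨Nat.prime_two⟩
  set I := stab θ with hI
  let P : Sylow 2 I := default
  set P' : Subgroup (MulAut S) := (P : Subgroup I).map I.subtype with hP'
  have hP'I : P' ≤ I := Subgroup.map_subtype_le _
  have hP'p : IsPGroup 2 P' := P.2.map _
  have hP'i : Odd (P'.relIndex I) := by
    have h4 : P'.relIndex I = (P : Subgroup I).index := by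
      rw [Subgroup.relIndex, hP', Subgroup.subgroupOf,
        Subgroup.comap_map_eq_self_of_injective I.subtype_injective]
    rw [h4]
    have := P.not_dvd_index
    exact Nat.odd_iff.2 (by omega)
  set J : Subgroup (MulAut S) := (MulAut.conj : S →* MulAut S).range ⊔ P' with hJ
  have hNI : (MulAut.conj : S →* MulAut S).range ≤ I := by
    rintro _ ⟨s, rfl⟩
    exact conj_mem_stab (isIrr_isClassFunction h1) s
  have hJI : J ≤ I := sup_le hNI hP'I
  have hNJ : ∀ s : S, MulAut.conj s ∈ J := fun s => Subgroup.mem_sup_left ⟨s, rfl⟩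
  have hP'J : P' ≤ J := le_sup_right
  haveI := Fintype.ofFinite J
  set N := (toJ J hNJ).range with hN
  haveI := Fintype.ofFinite N
  let e : S ≃* N := MonoidHom.ofInjective (toJ_inj hc J hNJ)
  have he : ∀ s, (e s : J) = toJ J hNJ s := fun s => rfl
  have h2 : IsPGroup 2 (J ⧸ N) := by
    have hsurj : Function.Surjective ((QuotientGroup.mk' N).comp
        (Subgroup.inclusion hP'J)) := by
      intro q
      obtain ⟨x, rfl⟩ := QuotientGroup.mk'_surjective _ q
      obtain ⟨_, ⟨s, rfl⟩, b, hb, hx⟩ := Subgroup.mem_sup_of_normal_left.1 x.2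
      refine ⟨⟨b, hb⟩, ?_⟩
      have h5 : x = toJ J hNJ s * Subgroup.inclusion hP'J ⟨b, hb⟩ := Subtype.ext hx.symm
      have h6 : (QuotientGroup.mk' N) (toJ J hNJ s) = 1 :=
        (QuotientGroup.eq_one_iff _).2 ⟨s, rfl⟩
      rw [h5, map_mul, h6, one_mul]
      rfl
    exact hP'p.of_surjective _ hsurj
  have hφ : IsIrrCharacter N (fun n => θ (e.symm n)) :=
    isIrr_comp e.symm.toMonoidHom e.symm.surjective h1
  obtain ⟨χ, hχ1, hχ2⟩ := Cfsg.Agent.S4872.result N h2 ⟨fun n => θ (e.symm n), hφ⟩ (by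
    show 2 ^ (Nat.card N).factorization 2 ∣ charDegree (fun n => θ (e.symm n))
    rw [charDegree_mulEquiv e.symm θ, ← Nat.card_congr e.toEquiv]
    exact hd) ⟨1, fun n n' hn => by
      have : n' = n := Subtype.ext (by rw [hn]; group)
      rw [this]
      exact (hr _).symm⟩
  have hχi : ind (χ : J → ℂ) = 1 := by
    rw [ind_eq]
    rw [finsum_eq_sum_of_fintype] at hχ1
    exact hχ1
  have hmu : mu (fun s : S => (χ : J → ℂ) ⟨MulAut.conj s, hNJ s⟩) θ = 1 := by
    apply mu_eq
    rw [finsum_eq_sum_of_fintype] at hχ2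
    rw [classInner_def, Nat.card_congr e.toEquiv, Int.cast_one, ← hχ2]
    congr 1
    refine Fintype.sum_equiv e.toEquiv _ _ fun s => ?_
    show (χ : J → ℂ) (toJ J hNJ s) * conj (θ s) = (χ : J → ℂ) (e s : J) * conj (θ (e.symm (e s)))
    rw [MulEquiv.symm_apply_apply, he]
  have hπ : RChar (χ : J → ℂ) := rchar_irr χ.2 hχi
  have hind : ind θ = 1 := by
    -- the restriction to the normal subgroup contains `θ` once
    rcases Cfsg.Agent.H694.ind_cases h1 with h | h | h
    · obtain ⟨g, hg⟩ := (Cfsg.Agent.H694.ind_eq_zero_iff h1).1 h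
      exact absurd (Complex.conj_eq_iff_im.1 (hr g)) hg
    · exact h
    · obtain ⟨n, hn⟩ := (hπ.comp (toJ J hNJ)).even θ h1 h
      have h3 : mu (fun s : S => (χ : J → ℂ) (toJ J hNJ s)) θ = 2 * n := mu_eq (by rw [hn]; push_cast; ring)
      have h4 : mu (fun s : S => (χ : J → ℂ) (toJ J hNJ s)) θ = 1 := hmu
      omega
  refine oext_of_real hc h1 hind J hNJ hπ (by rw [hmu]; exact odd_one) ?_
  have h3 : J.relIndex I ∣ P'.relIndex I := by
    rw [← Subgroup.relIndex_mul_relIndex P' J I hP'J hJI]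
    exact dvd_mul_left _ _
  exact hP'i.of_dvd_nat h3

end Cfsg.Agent.H727.Orth
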