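import Cfsg.Agent.H694.RCharInd

/-!
# Algebraic integers modulo two
-/

set_option autoImplicit false
set_option linter.unusedSectionVars false
set_option linter.style.haveILetI false

namespace Cfsg.Agent.H727.Orth

open Cfsg
open scoped ComplexConjugate
open Cfsg.Agent.Characters.Core
open Cfsg.Agent.H705.StrongLin (ind ind_eq real_of_ind)
open Cfsg.Agent.H694 (mu mu_eq RChar cj cj_cj ind_cj charDegree_cj sum_eq_sum_real ind_cases
  mu_conj_right even_mu)

universe u v

/-- the algebraic integers -/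
abbrev OI : Type := integralClosure ℤ ℂ

/-- the algebraic integers modulo two -/
abbrev O2 : Type := OI ⧸ Ideal.span {(2 : OI)}

/-- reduction -/
noncomputable def red : OI →+* O2 := Ideal.Quotient.mk _

theorem red_eq_zero {x : OI} : red x = 0 ↔ ∃ z : OI, x = 2 * z := by
  rw [red, Ideal.Quotient.eq_zero_iff_mem, Ideal.mem_span_singleton]
  rfl

theorem red_two_mul (x : OI) : red (2 * x) = 0 := red_eq_zero.2 ⟨x, rfl⟩

theorem red_surj (r : O2) : ∃ x, red x = r := Ideal.Quotient.mk_surjective r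

theorem add_self_zero (r : O2) : r + r = 0 := by
  obtain ⟨x, rfl⟩ := red_surj r
  rw [← map_add, ← two_mul, red_two_mul]

theorem not_integral_half : ¬ IsIntegral ℤ ((1 : ℂ) / 2) := by
  intro h
  have h1 : IsIntegral ℤ (((1 : ℚ) / 2 : ℚ) : ℂ) := by
    have : (((1 : ℚ) / 2 : ℚ) : ℂ) = (1 : ℂ) / 2 := by push_cast; ring
    rw [this]
    exact h
  have h2 : IsIntegral ℤ ((1 : ℚ) / 2) := by
    have := (isIntegral_algebraMap_iff (R := ℤ) (A := ℚ) (B := ℂ)
      (FaithfulSMul.algebraMap_injective ℚ ℂ) (x := (1 : ℚ) / 2)).1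
    exact this (by simpa using h1)
  obtain ⟨z, hz⟩ := (IsIntegrallyClosed.isIntegral_iff (R := ℤ) (K := ℚ)).1 h2
  have h3 : (z : ℚ) = 1 / 2 := by simpa using hz
  have h4 : (2 * z : ℚ) = 1 := by rw [h3]; norm_num
  have h5 : 2 * z = 1 := by exact_mod_cast h4
  omega

theorem red_one_ne : (red 1 : O2) ≠ 0 := by
  intro h
  obtain ⟨z, hz⟩ := red_eq_zero.1 h
  apply not_integral_half
  have h1 : ((1 : OI) : ℂ) = 2 * (z : ℂ) := by
    rw [hz]
    rfl
  have h2 : ((1 : ℂ) / 2) = (z : ℂ) := by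
    have h3 : ((1 : OI) : ℂ) = 1 := rfl
    rw [h3] at h1
    rw [h1]
    ring
  rw [h2]
  exact z.2

instance nontrivial_O2 : Nontrivial O2 := ⟨⟨1, 0, by
  have := red_one_ne
  rwa [map_one] at this⟩⟩

instance charP_O2 : CharP O2 2 := CharTwo.of_one_ne_zero_of_two_eq_zero one_ne_zero (by
  have := add_self_zero 1
  rwa [one_add_one_eq_two] at this)

theorem int_red (n : ℤ) : ((n : ℤ) : O2) = if Even n then 0 else 1 := by
  split_ifs with h
  · exact (CharP.intCast_eq_zero_iff O2 2 n).2 (even_iff_two_dvd.1 h)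
  · have h1 : Even (n - 1) := by
      rw [Int.not_even_iff_odd] at h
      exact h.sub_odd (by decide)
    have h2 : ((n - 1 : ℤ) : O2) = 0 :=
      (CharP.intCast_eq_zero_iff O2 2 _).2 (even_iff_two_dvd.1 h1)
    push_cast at h2
    exact sub_eq_zero.1 h2

theorem exists_odd_fiber {X R : Type*} [AddCommGroup R] [DecidableEq R] (h2 : ∀ r : R, r + r = 0) (f : X → R)
    (T : Finset X) (h : ∑ x ∈ T, f x ≠ 0) :
    ∃ r : R, r ≠ 0 ∧ Odd (T.filter fun x => f x = r).card := by
  classical
  by_contra hcon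
  push Not at hcon
  apply h
  have h1 := Finset.sum_comp (s := T) (fun r : R => r) f
  rw [h1]
  refine Finset.sum_eq_zero fun r _ => ?_
  by_cases hr : r = 0
  · rw [hr, smul_zero]
  · have h3 := hcon r hr
    rw [Nat.not_odd_iff_even] at h3
    obtain ⟨k, hk⟩ := h3
    rw [hk, add_smul]
    exact h2 _

/-- **The parity lemma with coefficients.** -/
theorem parity_multi {G : Type u} [Group G] [Fintype G] (s : Finset ℕ) (π : ℕ → G → ℂ)
    (hπ : ∀ j ∈ s, RChar (π j)) (a : ℕ → OI) (hb : ∀ j ∈ s, ∃ b : ℤ, π j 1 = 2 * b) {c : ℤ}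
    (hc : Odd c) (hsum : ∑ j ∈ s, ∑ k ∈ s, (a j : ℂ) * (a k : ℂ) * classInner (π j) (π k) = c) :
    ∃ r : O2, r ≠ 0 ∧ Odd (Nat.card {χ : IrrCharacter G // ind (χ : G → ℂ) = 1 ∧
      Even (charDegree (χ : G → ℂ)) ∧
      (red (∑ j ∈ s, a j * (mu (π j) χ : OI))) ^ 2 = r}) := by
  classical
  haveI := @Fintype.ofFinite (IrrCharacter G) finite_irr
  set A : IrrCharacter G → OI := fun χ => ∑ j ∈ s, a j * (mu (π j) χ : OI) with hA
  have hAc : ∀ χ, (A χ : ℂ) = ∑ j ∈ s, (a j : ℂ) * (mu (π j) χ : ℂ) := by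
    intro χ
    rw [hA]
    push_cast
    rfl
  -- the sum of squares
  have h1 : ∑ χ : IrrCharacter G, A χ ^ 2 = (c : OI) := by
    have h2 : ((∑ χ : IrrCharacter G, A χ ^ 2 : OI) : ℂ) = ((c : OI) : ℂ) := by
      push_cast
      rw [← hsum]
      have h3 : ∀ χ : IrrCharacter G, (A χ : ℂ) ^ 2 =
          ∑ j ∈ s, ∑ k ∈ s, (a j : ℂ) * (a k : ℂ) * ((mu (π j) χ : ℂ) * (mu (π k) χ : ℂ)) := by
        intro χ
        rw [hAc, sq, Finset.sum_mul_sum]
        refine Finset.sum_congr rfl fun j _ => Finset.sum_congr rfl fun k _ => ?_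
        ring
      rw [Finset.sum_congr rfl fun χ _ => h3 χ, Finset.sum_comm]
      refine Finset.sum_congr rfl fun j hj => ?_
      rw [Finset.sum_comm]
      refine Finset.sum_congr rfl fun k hk => ?_
      rw [← Finset.mul_sum, classInner_eq_sum (hπ j hj).cf (hπ k hk).cf]
      congr 1
      refine Finset.sum_congr rfl fun χ _ => ?_
      rw [(hπ j hj).mu_spec χ.2, (hπ k hk).mu_spec χ.2]
      simp
    exact_mod_cast h2
  -- the sum of the degrees
  have h2 : ∃ z : OI, ∑ χ : IrrCharacter G, A χ * (charDegree (χ : G → ℂ) : OI) = 2 * z := by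
    choose! b hb' using hb
    refine ⟨∑ j ∈ s, a j * (b j : OI), ?_⟩
    have h3 : ((∑ χ : IrrCharacter G, A χ * (charDegree (χ : G → ℂ) : OI) : OI) : ℂ) =
        ((2 * ∑ j ∈ s, a j * (b j : OI) : OI) : ℂ) := by
      push_cast
      have h4 : ∀ χ : IrrCharacter G, (A χ : ℂ) * (charDegree (χ : G → ℂ) : ℂ) =
          ∑ j ∈ s, (a j : ℂ) * ((mu (π j) χ : ℂ) * (charDegree (χ : G → ℂ) : ℂ)) := by
        intro χ
        rw [hAc, Finset.sum_mul]
        refine Finset.sum_congr rfl fun j _ => ?_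
        ring
      rw [Finset.sum_congr rfl fun χ _ => h4 χ, Finset.sum_comm, Finset.mul_sum]
      refine Finset.sum_congr rfl fun j hj => ?_
      rw [← Finset.mul_sum]
      have h5 : ∑ χ : IrrCharacter G, (mu (π j) χ : ℂ) * (charDegree (χ : G → ℂ) : ℂ) = π j 1 := by
        conv_rhs => rw [classFunction_eq_sum (hπ j hj).cf]
        rw [Finset.sum_apply]
        refine Finset.sum_congr rfl fun χ _ => ?_
        rw [Pi.smul_apply, (hπ j hj).mu_spec χ.2, Cfsg.Agent.Blocks.Basic.irr_one_eq_charDegree χ.2]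
        rfl
      rw [h5, hb' j hj]
      have h6 : ((2 : OI) : ℂ) = 2 := rfl
      rw [h6]
      ring
    exact_mod_cast h3
  obtain ⟨z, hz⟩ := h2
  -- modulo two
  set f : IrrCharacter G → O2 := fun χ => (red (A χ)) ^ 2 with hf
  have h3 : ∑ χ : IrrCharacter G, f χ = 1 := by
    have h4 := congrArg red h1
    rw [map_sum, map_intCast, int_red, if_neg (Int.not_even_iff_odd.2 hc)] at h4
    rw [← h4]
    exact Finset.sum_congr rfl fun χ _ => (map_pow _ _ _).symm
  have h4 : ∑ χ : IrrCharacter G, f χ * (charDegree (χ : G → ℂ) : O2) = 0 := by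
    have h5 := congrArg red hz
    rw [red_two_mul, map_sum] at h5
    have h6 := congrArg (fun r => r ^ 2) h5
    simp only [ne_eq, OfNat.ofNat_ne_zero, not_false_eq_true, zero_pow] at h6
    rw [sum_pow_char 2] at h6
    rw [← h6]
    refine Finset.sum_congr rfl fun χ _ => ?_
    rw [map_mul, mul_pow, map_natCast]
    congr 1
    have h7 := int_red (charDegree (χ : G → ℂ) : ℤ)
    rw [Int.cast_natCast] at h7
    rw [h7]
    split_ifs <;> simp
  have h5 : ∑ χ ∈ Finset.univ.filter (fun χ : IrrCharacter G => Even (charDegree (χ : G → ℂ))), f χ = 1 := by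
    have h6 : ∑ χ : IrrCharacter G, (f χ - f χ * (charDegree (χ : G → ℂ) : O2)) = 1 := by
      rw [Finset.sum_sub_distrib, h3, h4, sub_zero]
    rw [← h6, Finset.sum_filter]
    refine Finset.sum_congr rfl fun χ _ => ?_
    have h7 := int_red (charDegree (χ : G → ℂ) : ℤ)
    rw [Int.cast_natCast] at h7
    rw [h7]
    by_cases h8 : Even (charDegree (χ : G → ℂ))
    · rw [if_pos h8, if_pos (by exact_mod_cast h8)]
      ring
    · rw [if_neg h8, if_neg (by exact_mod_cast h8)]
      ring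
  have hmucj : ∀ j ∈ s, ∀ χ : IrrCharacter G, mu (π j) (cj χ) = mu (π j) χ := fun j hj χ =>
    mu_conj_right (hπ j hj).real
  have hfcj : ∀ χ, f (cj χ) = f χ := by
    intro χ
    have : A (cj χ) = A χ := Finset.sum_congr rfl fun j hj => by rw [hmucj j hj]
    rw [hf]
    simp only [this]
  let g : IrrCharacter G → O2 := fun χ => if Even (charDegree (χ : G → ℂ)) then f χ else 0
  have hg : ∑ χ, g χ = 1 := by
    rw [← h5, Finset.sum_filter]
  rw [sum_eq_sum_real add_self_zero g (fun χ => by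
    show (if _ then _ else _) = (if _ then _ else _)
    rw [charDegree_cj, hfcj])] at hg
  have h6 : ∑ᶠ χ ∈ {χ : IrrCharacter G | ind (χ : G → ℂ) ≠ 0}, g χ =
      ∑ χ ∈ Finset.univ.filter (fun χ : IrrCharacter G => ind (χ : G → ℂ) = 1 ∧
        Even (charDegree (χ : G → ℂ))), f χ := by
    have key : ∀ χ : IrrCharacter G, ind (χ : G → ℂ) = -1 → f χ = 0 := by
      intro χ h7
      have h8 : red (A χ) = 0 := by
        rw [hA]
        rw [map_sum]
        refine Finset.sum_eq_zero fun j hj => ?_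
        have h9 := even_mu ((hπ j hj).even χ χ.2 h7)
        rw [map_mul, map_intCast, int_red, if_pos h9, mul_zero]
      show (red (A χ)) ^ 2 = 0
      rw [h8]
      simp
    rw [← finsum_mem_coe_finset]
    have hset : ∀ χ : IrrCharacter G, g χ ≠ 0 → (ind (χ : G → ℂ) ≠ 0 ↔
        (ind (χ : G → ℂ) = 1 ∧ Even (charDegree (χ : G → ℂ)))) := by
      intro χ hχ
      have h7 : Even (charDegree (χ : G → ℂ)) := by
        by_contra h8
        exact hχ (if_neg h8)
      have h8 : g χ = f χ := if_pos h7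
      constructor
      · intro h9
        refine ⟨?_, h7⟩
        rcases ind_cases χ.2 with h | h | h
        · exact absurd h h9
        · exact h
        · exact absurd (h8.trans (key χ h)) hχ
      · rintro ⟨h9, -⟩
        rw [h9]
        exact one_ne_zero
    have e1 : ∑ᶠ χ ∈ {χ : IrrCharacter G | ind (χ : G → ℂ) ≠ 0}, g χ =
        ∑ᶠ χ ∈ ((Finset.univ.filter (fun χ : IrrCharacter G => ind (χ : G → ℂ) = 1 ∧
          Even (charDegree (χ : G → ℂ))) : Finset (IrrCharacter G)) : Set (IrrCharacter G)), g χ := by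
      refine finsum_mem_inter_support_eq' _ _ _ ?_
      intro χ hχ
      rw [Finset.coe_filter]
      simp only [Finset.mem_univ, true_and]
      exact hset χ hχ
    rw [e1]
    refine finsum_mem_congr rfl fun χ hχ => ?_
    rw [Finset.coe_filter] at hχ
    exact if_pos hχ.2.2
  rw [h6] at hg
  obtain ⟨r, hr, hodd⟩ := exists_odd_fiber add_self_zero f _ (by rw [hg]; exact one_ne_zero)
  refine ⟨r, hr, ?_⟩
  rw [Nat.card_eq_fintype_card, Fintype.card_subtype]
  rw [Finset.filter_filter] at hodd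
  convert hodd using 3
  rw [and_assoc]

end Cfsg.Agent.H727.Orth
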