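import Cfsg.Agent.H727.Orth.Alt
import Cfsg.Agent.H612.DegEight
import Cfsg.Agent.S0256

/-!
# Degrees of the alternating groups

`deg8_alt` : the irreducible characters of even degree of `alternatingGroup (Fin n)`, `n ≥ 8`, have degree
at least eight.
-/

set_option autoImplicit false
set_option linter.unusedSectionVars false
set_option linter.style.haveILetI false

namespace Cfsg.Agent.H727.Orth

open Cfsg Equiv Equiv.Perm
open Cfsg.Agent.H324.Hall

universe u

theorem deg8_of_bigDeg {X : Type u} [Group X] [Finite X] (h : BigDeg X 6) : Deg8 X := by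
  intro θ h1 h2
  have h3 := Cfsg.Agent.H612.DegEight.lt_charDegree h θ h1 (fun h => by rw [h] at h2; exact absurd h2 (by decide))
  obtain ⟨k, hk⟩ := h2
  omega

theorem simple_alt {n : ℕ} (hn : 5 ≤ n) : IsSimpleGroup (alternatingGroup (Fin n)) := by
  apply alternatingGroup.isSimpleGroup
  rw [Nat.card_eq_fintype_card, Fintype.card_fin]
  exact hn

theorem bigDeg_alt_eight : BigDeg (alternatingGroup (Fin 8)) 6 := by
  have h5 : IsSimpleGroup (alternatingGroup (Fin 8)) := simple_alt (by norm_num)
  obtain ⟨e⟩ := Cfsg.Agent.S0256.result (F := ZMod 2) (ZMod.card 2)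
  obtain ⟨φ, -, -, hφ⟩ := Cfsg.Agent.H612.DegEight.exists_quot (Γ := Matrix.SpecialLinearGroup (Fin 4) (ZMod 2))
    (T := alternatingGroup (Fin 8)) e.symm
  refine bigDeg_of_ker φ hφ (b := Fintype.card (ZMod 2) ^ (4 - 1) - 1)
    (fun k ρ hρ => S2392.result rfl 4 (by norm_num) ?_ ρ hρ) ?_
  · exact Cfsg.Agent.H612.DegEight.ringChar_ne (F := ZMod 2) Nat.prime_two
  · rw [ZMod.card]
    norm_num

/-- the embedding of alternating groups -/
theorem exists_alt_hom {k n : ℕ} (hkn : k ≤ n) :
    ∃ f : alternatingGroup (Fin k) →* alternatingGroup (Fin n), Function.Injective f := by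
  classical
  let e : Fin k ≃ {i : Fin n // i ∈ Set.range (Fin.castLE hkn)} :=
    Equiv.ofInjective _ (Fin.castLE_injective hkn)
  let f : Perm (Fin k) →* Perm (Fin n) := Equiv.Perm.extendDomainHom e
  have hf : Function.Injective f := Equiv.Perm.extendDomainHom_injective e
  have hs : ∀ g : Perm (Fin k), sign (f g) = sign g := fun g => Equiv.Perm.sign_extendDomain g e
  let F : alternatingGroup (Fin k) →* alternatingGroup (Fin n) :=
    (f.comp (alternatingGroup (Fin k)).subtype).codRestrict (alternatingGroup (Fin n)) (fun g => by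
      rw [mem_alternatingGroup, MonoidHom.comp_apply, hs]
      exact mem_alternatingGroup.1 g.2)
  refine ⟨F, ?_⟩
  intro a b hab
  apply Subtype.ext
  apply hf
  exact congrArg Subtype.val hab

theorem deg8_alt {n : ℕ} (hn : 8 ≤ n) : Deg8 (alternatingGroup (Fin n)) := by
  have h5 : IsSimpleGroup (alternatingGroup (Fin n)) := simple_alt (by omega)
  obtain ⟨f, hf⟩ := exists_alt_hom hn
  refine deg8_of_bigDeg (BigDeg.of_hom f ?_ bigDeg_alt_eight)
  have h8 : IsSimpleGroup (alternatingGroup (Fin 8)) := simple_alt (by norm_num)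
  obtain ⟨g, hg⟩ := exists_ne (1 : alternatingGroup (Fin 8))
  exact ⟨g, fun h => hg (hf (by rw [h, map_one]))⟩

/-- **The alternating groups of degree at least eight.** -/
theorem orthRow_alt {n : ℕ} (hn : 8 ≤ n) : OrthRow (alternatingGroup (Fin n)) :=
  (evenO_alt (by omega) (by omega)).orthRow (deg8_alt hn)

end Cfsg.Agent.H727.Orth
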