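import Cfsg.Agent.H727.Orth.RealExt
import Cfsg.Agent.H694.Parity
import Cfsg.Agent.H595.Triple
import Cfsg.Agent.S4474

/-!
# Extending characters of indicator one

`exists_orth_extension`: if `ψ` is an irreducible character of `I` of indicator one whose
restriction to the normal subgroup `N` contains the invariant character `θ` of indicator one with
odd multiplicity, then `θ` extends to a character of `I` of indicator one.
-/

set_option autoImplicit false
set_option linter.unusedSectionVars false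
set_option linter.style.haveILetI false

namespace Cfsg.Agent.H727.Orth

open Cfsg Representation Module
open scoped ComplexConjugate
open Cfsg.Agent.Characters.Core
open Cfsg.Agent.H705.StrongLin (ind ind_eq real_of_ind)
open Cfsg.Agent.OddOrderCharacters.NormalInduced (conjFn)
open Cfsg.Agent.H694 (mu mu_eq irr_mu_spec RChar)

universe u v

section dims

variable {N : Type*} [Group N] [Fintype N] {V W : Type*} [AddCommGroup V] [Module ℝ V]
  [FiniteDimensional ℝ V] [AddCommGroup W] [Module ℝ W] [FiniteDimensional ℝ W]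

/-- The dimension of the space of intertwining maps of two real representations. -/
theorem finrank_eq (σ : Representation ℝ N W) (τ : Representation ℝ N V) :
    ((finrank ℝ (IntertwiningMap σ τ) : ℝ) : ℂ) =
      classInner (fun n : N => ((τ.character n : ℝ) : ℂ)) (fun n : N => ((σ.character n : ℝ) : ℂ)) := by
  have hne : (Nat.card N : ℝ) ≠ 0 := by exact_mod_cast Nat.card_pos.ne'
  haveI : Invertible (Nat.card N : ℝ) := invertibleOfNonzero hne
  have h1 := card_inv_mul_sum_char_mul_char_eq_finrank (k := ℝ) (G := N) σ τ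
  -- the character of a real representation at the inverse
  have h2 : ∀ n : N, ((σ.character n⁻¹ : ℝ) : ℂ) = conj ((σ.character n : ℝ) : ℂ) := by
    intro n
    rw [Complex.conj_ofReal]
    let b := finBasis ℝ W
    let m := finrank ℝ W
    let e : W ≃ₗ[ℝ] (Fin m → ℝ) := b.equivFun
    let σ' : Representation ℝ N (Fin m → ℝ) :=
      { toFun := fun g => e.conj (σ g)
        map_one' := by rw [map_one]; exact LinearEquiv.conj_id e
        map_mul' := fun g h => by
          rw [map_mul]
          exact LinearEquiv.conj_comp e _ _ }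
    have h3 : ∀ g, σ'.character g = σ.character g := fun g => LinearMap.trace_conj' (σ g) e
    have h4 : ∀ g, (Cfsg.Agent.S4474.complexify σ').character g = ((σ.character g : ℝ) : ℂ) := by
      intro g
      rw [Cfsg.Agent.S4474.character_complexify, ← h3 g]
      rfl
    have h5 := isCharacter_apply_inv (G := N)
      (χ := (Cfsg.Agent.S4474.complexify σ').character) ⟨m, _, rfl⟩ n
    rw [h4, h4, Complex.conj_ofReal] at h5
    exact h5
  rw [classInner_def, ← h1]
  push_cast
  congr 1
  refine Finset.sum_congr rfl fun n _ => ?_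
  rw [h2 n]

/-- An average of `σ n⁻¹ ∘ A ∘ τ n`. -/
theorem exists_average (σ : Representation ℝ N W) (τ : Representation ℝ N V) (A : V →ₗ[ℝ] W)
    (f : W →ₗ[ℝ] V) (hf : ∀ (n : N) (w : W), f (σ n w) = τ n (f w)) :
    ∃ B : V →ₗ[ℝ] W, (∀ (n : N) (v : V), B (τ n v) = σ n (B v)) ∧
      LinearMap.trace ℝ W (B ∘ₗ f) = LinearMap.trace ℝ W (A ∘ₗ f) := by
  have hne : (Nat.card N : ℝ) ≠ 0 := by exact_mod_cast Nat.card_pos.ne'
  refine ⟨(Nat.card N : ℝ)⁻¹ • ∑ n : N, (σ n⁻¹) ∘ₗ A ∘ₗ (τ n), ?_, ?_⟩
  · intro m v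
    simp only [LinearMap.smul_apply, LinearMap.sum_apply, LinearMap.comp_apply, map_smul, map_sum]
    congr 1
    refine Fintype.sum_equiv (Equiv.mulRight m) _ _ fun n => ?_
    simp only [Equiv.coe_mulRight]
    have e1 : τ n (τ m v) = τ (n * m) v := by rw [map_mul]; rfl
    have e2 : σ m (σ (n * m)⁻¹ (A (τ (n * m) v))) = σ n⁻¹ (A (τ (n * m) v)) := by
      rw [← Module.End.mul_apply, ← map_mul]
      congr 2
      group
    rw [e1, e2]
  · have h0 : (∑ n : N, (σ n⁻¹) ∘ₗ A ∘ₗ (τ n)) ∘ₗ f = ∑ n : N, ((σ n⁻¹) ∘ₗ A ∘ₗ (τ n)) ∘ₗ f := by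
      ext w
      simp [LinearMap.sum_apply]
    rw [LinearMap.smul_comp, map_smul, h0, map_sum]
    have h1 : ∀ n : N, LinearMap.trace ℝ W (((σ n⁻¹) ∘ₗ A ∘ₗ (τ n)) ∘ₗ f) =
        LinearMap.trace ℝ W (A ∘ₗ f) := by
      intro n
      have h2 : ((σ n⁻¹) ∘ₗ A ∘ₗ (τ n)) ∘ₗ f = (σ n⁻¹) * ((A ∘ₗ f) * (σ n)) := by
        ext w
        show σ n⁻¹ (A (τ n (f w))) = σ n⁻¹ (A (f (σ n w)))
        rw [hf]
      rw [h2, LinearMap.trace_mul_comm, mul_assoc, ← map_mul, mul_inv_cancel, map_one, mul_one]
    rw [Finset.sum_congr rfl fun n _ => h1 n, Finset.sum_const, Finset.card_univ,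
      ← Nat.card_eq_fintype_card, nsmul_eq_mul, smul_eq_mul, ← mul_assoc, inv_mul_cancel₀ hne,
      one_mul]

/-- Endomorphisms of a real representation with character of norm one are scalar. -/
theorem scalar_of_norm (σ : Representation ℝ N W)
    (h1 : classInner (fun n : N => ((σ.character n : ℝ) : ℂ))
      (fun n : N => ((σ.character n : ℝ) : ℂ)) = 1) (T : W →ₗ[ℝ] W)
    (hT : ∀ (n : N) (w : W), T (σ n w) = σ n (T w)) : ∃ c : ℝ, ∀ w, T w = c • w := by
  have h2 : finrank ℝ (IntertwiningMap σ σ) = 1 := by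
    have := finrank_eq σ σ
    rw [h1] at this
    exact_mod_cast this
  let T' : IntertwiningMap σ σ := { T with isIntertwining' := fun n => LinearMap.ext fun w => hT n w }
  let id' : IntertwiningMap σ σ :=
    { LinearMap.id (R := ℝ) (M := W) with isIntertwining' := fun n => LinearMap.ext fun w => rfl }
  have hid : id' ≠ 0 := by
    intro h0
    have h3 : ∀ w : W, w = 0 := fun w => by
      have := congrArg (fun F : IntertwiningMap σ σ => F.toLinearMap w) h0
      exact this
    have : Subsingleton W := ⟨fun a b => by rw [h3 a, h3 b]⟩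
    have h4 : ∀ n : N, σ.character n = 0 := fun n => by
      rw [Representation.character]
      have : σ n = 0 := Subsingleton.elim _ _
      rw [this, map_zero]
    simp only [h4, Complex.ofReal_zero] at h1
    rw [classInner_def] at h1
    simp at h1
  obtain ⟨c, hc⟩ := (finrank_eq_one_iff_of_nonzero' id' hid).1 h2 T'
  refine ⟨c, fun w => ?_⟩
  have := congrArg (fun F : IntertwiningMap σ σ => F.toLinearMap w) hc
  exact this.symm

/-- Two real representations with the same character of norm one are equivalent. -/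
theorem exists_equiv (σ : Representation ℝ N W) (τ : Representation ℝ N W)
    (h1 : classInner (fun n : N => ((σ.character n : ℝ) : ℂ))
      (fun n : N => ((σ.character n : ℝ) : ℂ)) = 1) (h : ∀ n, τ.character n = σ.character n) :
    ∃ D : W ≃ₗ[ℝ] W, ∀ (n : N) (w : W), D (σ n w) = τ n (D w) := by
  have h2 : finrank ℝ (IntertwiningMap σ τ) = 1 := by
    have h3 := finrank_eq σ τ
    have h4 : (fun n : N => ((τ.character n : ℝ) : ℂ)) = fun n : N => ((σ.character n : ℝ) : ℂ) :=
      funext fun n => by rw [h n]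
    rw [h4, h1] at h3
    exact_mod_cast h3
  obtain ⟨F, hF⟩ : ∃ F : IntertwiningMap σ τ, F ≠ 0 := by
    by_contra hcon
    push Not at hcon
    have : Subsingleton (IntertwiningMap σ τ) := ⟨fun a b => by rw [hcon a, hcon b]⟩
    rw [finrank_zero_of_subsingleton] at h2
    exact zero_ne_one h2
  set f : W →ₗ[ℝ] W := F.toLinearMap with hf
  have hfi : ∀ (n : N) (w : W), f (σ n w) = τ n (f w) := fun n w =>
    congrArg (fun L : W →ₗ[ℝ] W => L w) (F.isIntertwining' n)
  obtain ⟨w, hw⟩ : ∃ w, f w ≠ 0 := by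
    by_contra hcon
    push Not at hcon
    apply hF
    apply IntertwiningMap.ext_iff.mpr
    exact LinearMap.ext hcon
  obtain ⟨φ, hφ⟩ : ∃ φ : W →ₗ[ℝ] ℝ, φ (f w) = 1 := by
    by_contra hcon
    push Not at hcon
    apply hw
    rw [← Module.forall_dual_apply_eq_zero_iff ℝ (f w)]
    intro φ
    by_contra h0
    exact hcon ((φ (f w))⁻¹ • φ) (by rw [LinearMap.smul_apply, smul_eq_mul, inv_mul_cancel₀ h0])
  obtain ⟨B, hB, htr⟩ := exists_average σ τ (φ.smulRight w) f hfi
  have htr1 : LinearMap.trace ℝ W ((φ.smulRight w) ∘ₗ f) = 1 := by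
    have : (φ.smulRight w) ∘ₗ f = (φ ∘ₗ f).smulRight w := by
      ext x
      rfl
    rw [this, LinearMap.trace_smulRight]
    exact hφ
  obtain ⟨c, hc⟩ := scalar_of_norm σ h1 (B ∘ₗ f) (fun n x => by
    show B (f (σ n x)) = σ n (B (f x))
    rw [hfi, hB])
  have hc0 : c ≠ 0 := by
    rintro rfl
    have : B ∘ₗ f = 0 := LinearMap.ext fun x => by rw [hc x, zero_smul]; rfl
    rw [this, map_zero, htr1] at htr
    exact zero_ne_one htr
  have hinj : Function.Injective f := by
    rw [← LinearMap.ker_eq_bot, LinearMap.ker_eq_bot']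
    intro x hx
    have h5 := hc x
    rw [LinearMap.comp_apply, hx, map_zero] at h5
    exact (smul_eq_zero.1 h5.symm).resolve_left hc0
  exact ⟨LinearEquiv.ofInjectiveEndo f hinj, fun n x => hfi n x⟩

end dims

/-- **Characters of indicator one extend if they occur with odd multiplicity.** -/
theorem exists_orth_extension {I : Type u} [Group I] [Fintype I] (N : Subgroup I)
    [hN : N.Normal] [Fintype N] {θ : N → ℂ} (hθ : IsIrrCharacter N θ) (hθ1 : ind θ = 1)
    (hinv : ∀ g, conjFn N θ g = θ) {ψ : I → ℂ} (hψ : IsIrrCharacter I ψ) (hψ1 : ind ψ = 1)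
    (hodd : Odd (mu (fun n : N => ψ n) θ)) :
    ∃ χ : I → ℂ, IsIrrCharacter I χ ∧ ind χ = 1 ∧ ∀ n : N, χ n = θ n := by
  classical
  rw [ind_eq] at hθ1 hψ1
  obtain ⟨m, σ, hσ⟩ := (Cfsg.Agent.S4474.result ⟨θ, hθ⟩).1 hθ1
  obtain ⟨k, ρ, hρ⟩ := (Cfsg.Agent.S4474.result ⟨ψ, hψ⟩).1 hψ1
  have hσ' : (fun n : N => ((σ.character n : ℝ) : ℂ)) = θ := funext hσ
  have hnorm : classInner (fun n : N => ((σ.character n : ℝ) : ℂ))
      (fun n : N => ((σ.character n : ℝ) : ℂ)) = 1 := by
    rw [hσ']
    exact classInner_irr_self hθ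
  let ρN : Representation ℝ N (Fin k → ℝ) := MonoidHom.comp ρ N.subtype
  have hρ' : (fun n : N => ((ρN.character n : ℝ) : ℂ)) = fun n : N => ψ n :=
    funext fun n => hρ n
  -- the dimension of the intertwining space
  have hdim : finrank ℝ (HomSp N ρ σ) = finrank ℝ (IntertwiningMap σ ρN) := by
    refine LinearEquiv.finrank_eq ?_
    exact
      { toFun := fun f => { (f : (Fin m → ℝ) →ₗ[ℝ] (Fin k → ℝ)) with
          isIntertwining' := fun n => LinearMap.ext fun w => f.2 n w }
        map_add' := fun f g => rfl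
        map_smul' := fun c f => rfl
        invFun := fun F => ⟨F.toLinearMap, fun n w =>
          congrArg (fun L : (Fin m → ℝ) →ₗ[ℝ] (Fin k → ℝ) => L w) (F.isIntertwining' n)⟩
        left_inv := fun f => rfl
        right_inv := fun F => rfl }
  have hodd' : Odd (finrank ℝ (HomSp N ρ σ)) := by
    have h1 := finrank_eq σ ρN
    have h0 : classInner (fun n : N => ψ n) θ = (mu (fun n : N => ψ n) θ : ℂ) :=
      irr_mu_spec (isCharacter_comp N.subtype (isIrr_isCharacter hψ)) hθ
    rw [hρ', hσ', h0] at h1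
    have h2 : ((finrank ℝ (IntertwiningMap σ ρN) : ℕ) : ℤ) = mu (fun n : N => ψ n) θ := by
      exact_mod_cast h1
    rw [← hdim] at h2
    rw [← h2] at hodd
    exact_mod_cast hodd
  have hW : Nontrivial (Fin m → ℝ) := by
    by_contra hcon
    rw [not_nontrivial_iff_subsingleton] at hcon
    have h1 := hσ 1
    rw [Subsingleton.elim (σ 1) 0, map_zero, Complex.ofReal_zero] at h1
    exact isIrr_apply_one_ne_zero hθ h1.symm
  obtain ⟨D, hD⟩ := exists_extension N ρ σ (fun T hT => scalar_of_norm σ hnorm T hT) (fun g => by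
    let τ : Representation ℝ N (Fin m → ℝ) := MonoidHom.comp σ (MulAut.conjNormal g : MulAut N).toMonoidHom
    have h1 : ∀ n, τ.character n = σ.character n := by
      intro n
      have h2 := congrFun (hinv g) n
      have h3 : conjFn N θ g n = ((τ.character n : ℝ) : ℂ) := (hσ _).symm
      have h4 : θ n = ((σ.character n : ℝ) : ℂ) := (hσ n).symm
      rw [h3, h4] at h2
      exact_mod_cast h2
    obtain ⟨E, hE⟩ := exists_equiv σ τ hnorm h1
    exact ⟨E, hE⟩) hodd' hW
  set χ : I → ℂ := fun g => ((LinearMap.trace ℝ (Fin m → ℝ) (D g) : ℝ) : ℂ) with hχ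
  have hres : ∀ n : N, χ n = θ n := by
    intro n
    rw [hχ]
    show ((LinearMap.trace ℝ (Fin m → ℝ) (D n) : ℝ) : ℂ) = θ n
    rw [hD, hσ]
  have hchar : IsCharacter I χ := ⟨m, Cfsg.Agent.S4474.complexify D,
    funext fun g => Cfsg.Agent.S4474.character_complexify D g⟩
  have hirr : IsIrrCharacter I χ := Cfsg.Agent.H595.Triple.isIrr_of_comp N.subtype hchar (by
    have : χ ∘ N.subtype = θ := funext hres
    rw [this]
    exact hθ)
  refine ⟨χ, hirr, ?_, hres⟩
  rw [ind_eq]
  exact (Cfsg.Agent.S4474.result ⟨χ, hirr⟩).2 ⟨m, D, fun g => rfl⟩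

end Cfsg.Agent.H727.Orth
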