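import Cfsg.Agent.H727.Orth.CharExt

/-!
# Criteria for orthogonal extensions to the stabilizer in the automorphism group

`stab θ`: the automorphisms of `S` fixing the function `θ`.
`OExt θ`: `θ` extends to a character of indicator one of its stabilizer.
* `oext_of_real`: a real (virtual) character of `J` with odd multiplicity at `θ`, `|stab θ : J ∩ stab θ|` odd;
* `oext_of_parity`: a real (virtual) character `π` of `J`, `|Aut S : J|` odd, with `[π, π] + π(1)` odd;
* `OrthRow S`: the conclusion for `S`.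
-/

set_option autoImplicit false
set_option linter.unusedSectionVars false
set_option linter.style.haveILetI false

namespace Cfsg.Agent.H727.Orth

open Cfsg
open scoped ComplexConjugate
open Cfsg.Agent.Characters.Core
open Cfsg.Agent.H705.StrongLin (ind ind_eq real_of_ind)
open Cfsg.Agent.OddOrderCharacters.NormalInduced (conjFn)
open Cfsg.Agent.OddOrderCharacters.PF9.CliffGen (resTo inertia mem_inertia le_inertia)
open Cfsg.Agent.H694 (mu mu_eq irr_mu_spec RChar exists_plus_over dn irr_dn classInner_dn inv_dn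
  classInner_indFun_res ind_eq_zero_iff real_of_ind_ne odd_relIndex exists_fixed)

universe u v

/-- The orthogonal extension to the inertia group. -/
theorem orth_of_real_rep {G : Type u} [Group G] [Fintype G] (N : Subgroup G) [hN : N.Normal]
    [Fintype N] {φ : N → ℂ} (hφ : IsIrrCharacter N φ) (hφ1 : ind φ = 1) (J : Subgroup G) [Fintype J]
    (hNJ : N ≤ J) {π : J → ℂ} (hπ : RChar π) (hodd : Odd (mu (resTo hNJ π) φ))
    (hJ : Odd (J.relIndex (inertia N φ))) :
    ∃ χ : inertia N φ → ℂ, IsIrrCharacter (inertia N φ) χ ∧ ind χ = 1 ∧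
      ∀ n : N, χ ⟨n, le_inertia (isIrr_isClassFunction hφ) n.2⟩ = φ n := by
  classical
  set I := inertia N φ with hI
  haveI : Fintype I := Fintype.ofFinite _
  have hNI : N ≤ I := le_inertia (isIrr_isClassFunction hφ)
  set L : Subgroup I := J.subgroupOf I with hL
  haveI : Fintype L := Fintype.ofFinite _
  haveI : Fintype (N.subgroupOf I) := Fintype.ofFinite _
  let j : L →* J :=
    { toFun := fun x => ⟨(x : I), Subgroup.mem_subgroupOf.1 x.2⟩
      map_one' := rfl
      map_mul' := fun _ _ => rfl }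
  have hπ' : RChar (fun x : L => π (j x)) := hπ.comp j
  have hPi : RChar (indFun L (fun x : L => π (j x))) := hπ'.indFun L
  have hNL : N.subgroupOf I ≤ L := fun x hx =>
    Subgroup.mem_subgroupOf.2 (hNJ (Subgroup.mem_subgroupOf.1 hx))
  have hinv : ∀ g : I, conjFn (N.subgroupOf I) (dn N I hNI φ) g = dn N I hNI φ :=
    fun g => inv_dn N I hNI (fun g hg => hg) g
  have h1 := classInner_indFun_res (N.subgroupOf I) L hNL hinv (fun x : L => π (j x))
  have h2 : classInner (fun n : N.subgroupOf I => π (j ⟨n, hNL n.2⟩)) (dn N I hNI φ) =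
      (mu (resTo hNJ π) φ : ℂ) := by
    have h3 := classInner_dn N I hNI (resTo hNJ π) φ
    have h4 := (hπ.comp (Subgroup.inclusion hNJ)).mu_spec hφ
    exact h3.trans h4
  rw [h2] at h1
  have h5 : mu (fun n : N.subgroupOf I => indFun L (fun x : L => π (j x)) (n : I))
      (dn N I hNI φ) = (L.index : ℤ) * mu (resTo hNJ π) φ := by
    apply mu_eq
    rw [h1]
    push_cast
    rfl
  have hLodd : Odd (L.index : ℤ) := by
    have : Odd L.index := hJ
    exact_mod_cast this
  have hφd : ind (dn N I hNI φ) = 1 := by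
    rw [← hφ1, ind_eq, ind_eq, Nat.card_congr (Subgroup.subgroupOfEquivOfLe hNI).toEquiv]
    congr 1
    refine Fintype.sum_equiv (Subgroup.subgroupOfEquivOfLe hNI).toEquiv _ _ fun n => ?_
    show φ _ = φ _
    congr 1
  have hφr' : ind (dn N I hNI φ) ≠ 0 := by
    rw [hφd]
    exact one_ne_zero
  obtain ⟨ψ, hψ, hψ1, hψ2, -⟩ := exists_plus_over (N.subgroupOf I).subtype
    (irr_dn N I hNI hφ) hφr' hPi (by
      have h6 : Odd (mu (fun n : N.subgroupOf I => indFun L (fun x : L => π (j x)) (n : I))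
        (dn N I hNI φ)) := by
          rw [h5]
          exact hLodd.mul hodd
      exact h6)
  obtain ⟨χ, hχ, hχ1, hχN⟩ := exists_orth_extension (N.subgroupOf I) (irr_dn N I hNI hφ) hφd hinv
    hψ hψ1 hψ2
  refine ⟨χ, hχ, hχ1, fun n => ?_⟩
  have h7 := hχN ⟨⟨n, hNI n.2⟩, Subgroup.mem_subgroupOf.2 n.2⟩
  exact h7

/-- The orthogonal extension by parity. -/
theorem orth_of_parity {G : Type u} [Group G] [Fintype G] (N : Subgroup G) [hN : N.Normal]
    [Fintype N] (J : Subgroup G) [Fintype J] (hJ : Odd J.index)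
    (hNJ : N ≤ J) {π : J → ℂ} (hπ : RChar π) {a b : ℤ}
    (ha : classInner (resTo hNJ π) (resTo hNJ π) = a) (hb : π 1 = b) (hab : Odd (a + b)) :
    ∃ (φ : N → ℂ) (hφ : IsIrrCharacter N φ), ind φ = 1 ∧ Even (charDegree φ) ∧
      Odd (mu (resTo hNJ π) φ) ∧
      ∃ χ : inertia N φ → ℂ, IsIrrCharacter (inertia N φ) χ ∧ ind χ = 1 ∧
        ∀ n : N, χ ⟨n, le_inertia (isIrr_isClassFunction hφ) n.2⟩ = φ n := by
  classical
  have hπN : RChar (resTo hNJ π) := hπ.comp (Subgroup.inclusion hNJ)
  have hodd := hπN.odd_card ha (b := b) hb hab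
  haveI : Fact (Nat.Prime 2) := ⟨Nat.prime_two⟩
  let P : Sylow 2 J := default
  set P' : Subgroup G := (P : Subgroup J).map J.subtype with hP'
  have hP'J : P' ≤ J := Subgroup.map_subtype_le _
  have hP'p : IsPGroup 2 P' := P.2.map _
  have hP'i : Odd P'.index := by
    have h3 : P'.relIndex J * J.index = P'.index := Subgroup.relIndex_mul_index hP'J
    rw [← h3]
    refine Odd.mul ?_ hJ
    have h4 : P'.relIndex J = (P : Subgroup J).index := by
      rw [Subgroup.relIndex, hP', Subgroup.subgroupOf,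
        Subgroup.comap_map_eq_self_of_injective J.subtype_injective]
    rw [h4]
    have := P.not_dvd_index
    exact Nat.odd_iff.2 (by omega)
  let X : Set (IrrCharacter N) := {φ | ind (φ : N → ℂ) = 1 ∧ Even (charDegree (φ : N → ℂ)) ∧
    Odd (mu (resTo hNJ π) φ)}
  obtain ⟨φ, hφX, hPφ⟩ := exists_fixed N P' hP'p X hodd (by
    intro g hg φ hφ
    have hgJ : g ∈ J := hP'J hg
    refine ⟨?_, ?_, ?_⟩
    · show ind (conjFn N (φ : N → ℂ) g) = 1
      rw [← hφ.1, ind_eq, ind_eq]
      congr 1
      refine Fintype.sum_equiv (MulAut.conjNormal g : MulAut N).toEquiv _ _ fun n => ?_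
      show (φ : N → ℂ) ⟨g * (n * n : N) * g⁻¹, _⟩ = (φ : N → ℂ)
        ((MulAut.conjNormal g : MulAut N) n * (MulAut.conjNormal g : MulAut N) n)
      rw [← map_mul]
      congr 1
    · show Even (charDegree (conjFn N (φ : N → ℂ) g))
      rw [charDegree, Cfsg.Agent.OddOrderCharacters.IndRes.conjFn_apply_one]
      exact hφ.2.1
    · show Odd (mu (resTo hNJ π) (conjFn N (φ : N → ℂ) g))
      have h5 : resTo hNJ π = resTo hNJ π ∘ (MulAut.conjNormal g : MulAut N) := by
        funext n
        have := hπ.cf ⟨n, hNJ n.2⟩ ⟨g, hgJ⟩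
        exact this.symm
      have h6 : mu (resTo hNJ π) (conjFn N (φ : N → ℂ) g) = mu (resTo hNJ π) φ := by
        rw [mu, mu]
        congr 2
        conv_lhs => rw [h5]
        exact Cfsg.Agent.Characters.Clifford.classInner_comp_mulEquiv
          (MulAut.conjNormal g : MulAut N) _ _
      rw [h6]
      exact hφ.2.2)
  exact ⟨φ, φ.2, hφX.1, hφX.2.1, hφX.2.2, orth_of_real_rep N φ.2 hφX.1 J hNJ hπ hφX.2.2
    (odd_relIndex hP'J hPφ hP'i)⟩

/-! ### The automorphism group -/

section aut

variable {S : Type u} [Group S]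

/-- The automorphisms fixing a function. -/
def stab (θ : S → ℂ) : Subgroup (MulAut S) where
  carrier := {a | ∀ s, θ (a s) = θ s}
  one_mem' := fun s => rfl
  mul_mem' := fun {a b} ha hb s => by
    show θ (a (b s)) = θ s
    rw [ha, hb]
  inv_mem' := fun {a} ha s => by
    have := ha (a⁻¹ s)
    rw [← this]
    congr 1
    exact MulAut.apply_inv_self S a s

theorem mem_stab {θ : S → ℂ} {a : MulAut S} : a ∈ stab θ ↔ ∀ s, θ (a s) = θ s := Iff.rfl

theorem conj_mem_stab {θ : S → ℂ} (h : IsClassFunction S θ) (s : S) : MulAut.conj s ∈ stab θ := by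
  intro x
  rw [MulAut.conj_apply]
  exact h x s

/-- `θ` extends to a character of indicator one of its stabilizer. -/
def OExt (θ : S → ℂ) : Prop :=
  ∃ χ : stab θ → ℂ, IsIrrCharacter (stab θ) χ ∧ ind χ = 1 ∧
    ∀ (s : S) (hs : MulAut.conj s ∈ stab θ), χ ⟨MulAut.conj s, hs⟩ = θ s

/-- The row of a simple group. -/
def OrthRow (S : Type u) [Group S] : Prop :=
  ∃ θ : S → ℂ, IsIrrCharacter S θ ∧ Even (charDegree θ) ∧ 4 ≤ charDegree θ ∧
    (Nat.card S ≠ 60 → 8 ≤ charDegree θ) ∧ OExt θ

variable [Finite S]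

instance normal_inn : (MulAut.conj : S →* MulAut S).range.Normal := by
  constructor
  rintro _ ⟨s, rfl⟩ a
  refine ⟨a s, ?_⟩
  ext x
  simp

/-- The isomorphism onto the inner automorphisms. -/
noncomputable def innEquiv (hc : Subgroup.center S = ⊥) : S ≃* (MulAut.conj : S →* MulAut S).range :=
  MonoidHom.ofInjective (f := (MulAut.conj : S →* MulAut S)) (by
    rw [← MonoidHom.ker_eq_bot_iff]
    rw [eq_bot_iff, ← hc]
    intro s hs
    rw [MonoidHom.mem_ker] at hs
    rw [Subgroup.mem_center_iff]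
    intro x
    have := congrArg (fun a : MulAut S => a x) hs
    simp only [MulAut.conj_apply, MulAut.one_apply] at this
    rw [mul_inv_eq_iff_eq_mul] at this
    exact this.symm)

theorem innEquiv_apply (hc : Subgroup.center S = ⊥) (s : S) :
    ((innEquiv hc s : (MulAut.conj : S →* MulAut S).range) : MulAut S) = MulAut.conj s := rfl

theorem inertia_eq_stab (hc : Subgroup.center S = ⊥)
    (φ : (MulAut.conj : S →* MulAut S).range → ℂ) :
    inertia (MulAut.conj : S →* MulAut S).range φ = stab (fun s => φ (innEquiv hc s)) := by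
  ext a
  rw [mem_inertia, mem_stab]
  have key : ∀ s : S, (⟨a * (innEquiv hc s : (MulAut.conj : S →* MulAut S).range) * a⁻¹,
      normal_inn.conj_mem _ (innEquiv hc s).2 a⟩ : (MulAut.conj : S →* MulAut S).range) =
      innEquiv hc (a s) := by
    intro s
    apply Subtype.ext
    show a * MulAut.conj s * a⁻¹ = MulAut.conj (a s)
    ext x
    simp
  constructor
  · intro h s
    have := congrFun h (innEquiv hc s)
    rw [← this]
    show _ = φ _
    rw [key]
  · intro h
    funext n
    obtain ⟨s, rfl⟩ := (innEquiv hc).surjective n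
    show φ _ = _
    rw [key]
    exact h s

/-- Transport of the extension. -/
theorem oext_of_inertia (hc : Subgroup.center S = ⊥)
    (φ : (MulAut.conj : S →* MulAut S).range → ℂ)
    (h : ∃ χ : inertia (MulAut.conj : S →* MulAut S).range φ → ℂ,
      IsIrrCharacter (inertia (MulAut.conj : S →* MulAut S).range φ) χ ∧ ind χ = 1 ∧
      ∀ (n : (MulAut.conj : S →* MulAut S).range)
        (hn : (n : MulAut S) ∈ inertia (MulAut.conj : S →* MulAut S).range φ), χ ⟨n, hn⟩ = φ n) :
    OExt (fun s => φ (innEquiv hc s)) := by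
  rw [inertia_eq_stab hc φ] at h
  obtain ⟨χ, h1, h2, h3⟩ := h
  exact ⟨χ, h1, h2, fun s hs => h3 (innEquiv hc s) hs⟩

theorem isIrr_inn (hc : Subgroup.center S = ⊥) {φ : (MulAut.conj : S →* MulAut S).range → ℂ}
    (h : IsIrrCharacter (MulAut.conj : S →* MulAut S).range φ) :
    IsIrrCharacter S (fun s => φ (innEquiv hc s)) :=
  isIrr_comp (innEquiv hc).toMonoidHom (innEquiv hc).surjective h

theorem ind_inn (hc : Subgroup.center S = ⊥) (φ : (MulAut.conj : S →* MulAut S).range → ℂ) :
    ind (fun s => φ (innEquiv hc s)) = ind φ := by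
  have := Fintype.ofFinite S
  have := Fintype.ofFinite (MulAut.conj : S →* MulAut S).range
  rw [ind_eq, ind_eq, Nat.card_congr (innEquiv hc).toEquiv]
  congr 1
  refine Fintype.sum_equiv (innEquiv hc).toEquiv _ _ fun n => ?_
  show φ _ = φ _
  congr 1
  exact map_mul (innEquiv hc) n n

theorem charDegree_inn (hc : Subgroup.center S = ⊥)
    (φ : (MulAut.conj : S →* MulAut S).range → ℂ) :
    charDegree (fun s => φ (innEquiv hc s)) = charDegree φ := by
  rw [charDegree, charDegree, map_one]

/-- **Orthogonal extension from a real character with odd multiplicity.** -/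
theorem oext_of_real [Fintype S] (hc : Subgroup.center S = ⊥) {θ : S → ℂ} (hθ : IsIrrCharacter S θ)
    (hθ1 : ind θ = 1) (J : Subgroup (MulAut S)) [Fintype J]
    (hNJ : ∀ s : S, MulAut.conj s ∈ J) {π : J → ℂ} (hπ : RChar π)
    (hodd : Odd (mu (fun s : S => π ⟨MulAut.conj s, hNJ s⟩) θ))
    (hJ : Odd (J.relIndex (stab θ))) : OExt θ := by
  classical
  haveI := Fintype.ofFinite (MulAut S)
  set N : Subgroup (MulAut S) := (MulAut.conj : S →* MulAut S).range with hN
  haveI := Fintype.ofFinite N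
  set φ : N → ℂ := fun n => θ ((innEquiv hc).symm n) with hφ
  have hθφ : (fun s => φ (innEquiv hc s)) = θ := funext fun s => by
    rw [hφ]
    show θ _ = θ s
    rw [MulEquiv.symm_apply_apply]
  have hφi : IsIrrCharacter N φ :=
    isIrr_comp (innEquiv hc).symm.toMonoidHom (innEquiv hc).symm.surjective hθ
  have hNJ' : N ≤ J := by
    rintro _ ⟨s, rfl⟩
    exact hNJ s
  have h1 : mu (resTo hNJ' π) φ = mu (fun s : S => π ⟨MulAut.conj s, hNJ s⟩) θ := by
    rw [mu, mu]
    congr 2
    rw [classInner_def, classInner_def, ← Nat.card_congr (innEquiv hc).toEquiv]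
    congr 1
    symm
    refine Fintype.sum_equiv (innEquiv hc).toEquiv _ _ fun n => ?_
    show π _ * conj (θ n) = π _ * conj (θ _)
    congr 2
    show θ n = θ ((innEquiv hc).symm (innEquiv hc n))
    rw [MulEquiv.symm_apply_apply]
  rw [← hθφ]
  have h2 := inertia_eq_stab hc φ
  rw [hθφ] at h2
  obtain ⟨χ, h3, h4, h5⟩ := orth_of_real_rep N hφi (by rw [← ind_inn hc φ, hθφ]; exact hθ1) J hNJ'
    hπ (by rw [h1]; exact hodd) (by rw [h2]; exact hJ)
  exact oext_of_inertia hc φ ⟨χ, h3, h4, fun n hn => h5 n⟩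

/-- **Orthogonal extension by parity.** -/
theorem oext_of_parity [Fintype S] (hc : Subgroup.center S = ⊥) (J : Subgroup (MulAut S)) [Fintype J]
    (hJ : Odd J.index) (hNJ : ∀ s : S, MulAut.conj s ∈ J) {π : J → ℂ} (hπ : RChar π) {a b : ℤ}
    (ha : classInner (fun s : S => π ⟨MulAut.conj s, hNJ s⟩)
      (fun s : S => π ⟨MulAut.conj s, hNJ s⟩) = a) (hb : π 1 = b) (hab : Odd (a + b)) :
    ∃ θ : S → ℂ, IsIrrCharacter S θ ∧ ind θ = 1 ∧ Even (charDegree θ) ∧
      Odd (mu (fun s : S => π ⟨MulAut.conj s, hNJ s⟩) θ) ∧ OExt θ := by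
  classical
  haveI := Fintype.ofFinite (MulAut S)
  set N : Subgroup (MulAut S) := (MulAut.conj : S →* MulAut S).range with hN
  haveI := Fintype.ofFinite N
  have hNJ' : N ≤ J := by
    rintro _ ⟨s, rfl⟩
    exact hNJ s
  have hsum : ∀ F G : N → ℂ, classInner F G =
      classInner (fun s => F (innEquiv hc s)) (fun s => G (innEquiv hc s)) := by
    intro F G
    rw [classInner_def, classInner_def, ← Nat.card_congr (innEquiv hc).toEquiv]
    congr 1
    symm
    exact Fintype.sum_equiv (innEquiv hc).toEquiv _ _ fun n => rfl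
  obtain ⟨φ, hφ, h1, h2, h3, χ, h4, h5, h6⟩ := orth_of_parity N J hJ hNJ' hπ (a := a) (b := b)
    (by rw [hsum]; exact ha) hb hab
  refine ⟨fun s => φ (innEquiv hc s), isIrr_inn hc hφ, by rw [ind_inn hc]; exact h1,
    by rw [charDegree_inn hc]; exact h2, ?_, oext_of_inertia hc φ ⟨χ, h4, h5, fun n hn => h6 n⟩⟩
  have h7 : mu (fun s : S => π ⟨MulAut.conj s, hNJ s⟩) (fun s => φ (innEquiv hc s)) =
      mu (resTo hNJ' π) φ := by
    rw [mu, mu, hsum (resTo hNJ' π) φ]
    rfl
  rw [h7]
  exact h3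

end aut

end Cfsg.Agent.H727.Orth
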