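import Cfsg.Agent.H727.Orth.Multi
import Cfsg.Agent.H694.P1Core
import Cfsg.Agent.CharactersDeep.MaxInduced

/-!
# Orthogonal extensions from a real element of odd order

`LocS y K`: `y` real of odd order, `K ≤ C_S(y)` of order prime to the order of `y` and of odd index in
`C_S(y)`, stable under the automorphisms fixing or inverting `y`.
* `oext_of_loc`: `LocS y K` and a subgroup `J` of odd index in `Aut S` preserving the real class of `y`.
-/

set_option autoImplicit false
set_option linter.unusedSectionVars false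
set_option linter.style.haveILetI false

namespace Cfsg.Agent.H727.Orth

open Cfsg
open scoped ComplexConjugate
open Cfsg.Agent.Characters.Core
open Cfsg.Agent.H705.StrongLin (ind ind_eq real_of_ind)
open Cfsg.Agent.H694 (mu mu_eq irr_mu_spec RChar Cst mem_Cst LocJ)

universe u v

/-- Local data of a real element of odd order for the automorphism group. -/
structure LocS {S : Type*} [Group S] (y : S) (K : Subgroup S) : Prop where
  ne : y ≠ 1
  odd : Odd (orderOf y)
  real : ∃ n, n * y * n⁻¹ = y⁻¹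
  comm : ∀ k ∈ K, k * y = y * k
  cop : (Nat.card K).Coprime (orderOf y)
  idx : Odd (K.relIndex (Subgroup.centralizer {y}))
  st : ∀ α : MulAut S, (α y = y ∨ α y = y⁻¹) → ∀ k ∈ K, α k ∈ K

section

variable {S : Type u} [Group S]

/-- the embedding of `S` in a group of automorphisms -/
def toJ (J : Subgroup (MulAut S)) (hNJ : ∀ s : S, MulAut.conj s ∈ J) : S →* J :=
  (MulAut.conj : S →* MulAut S).codRestrict J hNJ

theorem toJ_apply (J : Subgroup (MulAut S)) (hNJ : ∀ s : S, MulAut.conj s ∈ J) (s : S) :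
    toJ J hNJ s = ⟨MulAut.conj s, hNJ s⟩ := rfl

theorem toJ_inj (hcen : Subgroup.center S = ⊥) (J : Subgroup (MulAut S))
    (hNJ : ∀ s : S, MulAut.conj s ∈ J) : Function.Injective (toJ J hNJ) := by
  rw [← MonoidHom.ker_eq_bot_iff, eq_bot_iff, ← hcen]
  intro s hs
  rw [MonoidHom.mem_ker] at hs
  rw [Subgroup.mem_center_iff]
  intro x
  have := congrArg (fun a : J => (a : MulAut S) x) hs
  simp only [toJ_apply, MulAut.conj_apply, Subgroup.coe_one, MulAut.one_apply] at this
  rw [mul_inv_eq_iff_eq_mul] at this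
  exact this.symm

theorem conj_toJ (J : Subgroup (MulAut S)) (hNJ : ∀ s : S, MulAut.conj s ∈ J) (g : J) (s : S) :
    g * toJ J hNJ s * g⁻¹ = toJ J hNJ ((g : MulAut S) s) := by
  apply Subtype.ext
  show (g : MulAut S) * MulAut.conj s * (g : MulAut S)⁻¹ = MulAut.conj ((g : MulAut S) s)
  ext x
  simp

instance normal_toJ (J : Subgroup (MulAut S)) (hNJ : ∀ s : S, MulAut.conj s ∈ J) :
    (toJ J hNJ).range.Normal := by
  constructor
  rintro _ ⟨s, rfl⟩ g
  exact ⟨(g : MulAut S) s, (conj_toJ J hNJ g s).symm⟩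

theorem locJ_of_locS (hcen : Subgroup.center S = ⊥) (J : Subgroup (MulAut S))
    (hNJ : ∀ s : S, MulAut.conj s ∈ J) {y : S} {K : Subgroup S} (L : LocS y K) :
    LocJ (toJ J hNJ).range (toJ J hNJ y) (K.map (toJ J hNJ)) where
  mem := ⟨y, rfl⟩
  ne h := L.ne (toJ_inj hcen J hNJ (by rw [h, map_one]))
  odd := by
    rw [orderOf_injective _ (toJ_inj hcen J hNJ)]
    exact L.odd
  real := by
    obtain ⟨n, hn⟩ := L.real
    exact ⟨toJ J hNJ n, ⟨n, rfl⟩, by rw [← map_mul, ← map_inv, ← map_mul, hn, map_inv]⟩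
  le := by
    rintro _ ⟨k, -, rfl⟩
    exact ⟨k, rfl⟩
  comm := by
    rintro _ ⟨k, hk, rfl⟩
    rw [← map_mul, L.comm k hk, map_mul]
  cop := by
    rw [orderOf_injective _ (toJ_inj hcen J hNJ), Subgroup.card_map_of_injective (toJ_inj hcen J hNJ)]
    exact L.cop
  idx := by
    have h1 : (toJ J hNJ).range ⊓ Subgroup.centralizer {toJ J hNJ y} =
        (Subgroup.centralizer {y}).map (toJ J hNJ) := by
      ext g
      rw [Subgroup.mem_inf, Subgroup.mem_centralizer_singleton_iff]
      constructor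
      · rintro ⟨⟨s, rfl⟩, h⟩
        refine ⟨s, Subgroup.mem_centralizer_singleton_iff.2 ?_, rfl⟩
        rw [← map_mul, ← map_mul] at h
        exact toJ_inj hcen J hNJ h
      · rintro ⟨s, h, rfl⟩
        refine ⟨⟨s, rfl⟩, ?_⟩
        rw [← map_mul, ← map_mul, Subgroup.mem_centralizer_singleton_iff.1 h]
    rw [h1, Subgroup.relIndex_map_map_of_injective _ _ (toJ_inj hcen J hNJ)]
    exact L.idx
  st := by
    rintro g hg _ ⟨k, hk, rfl⟩
    rw [conj_toJ]
    refine ⟨_, L.st (g : MulAut S) ?_ k hk, rfl⟩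
    rw [mem_Cst, conj_toJ, ← map_inv] at hg
    exact hg.imp (fun h => toJ_inj hcen J hNJ h) (fun h => toJ_inj hcen J hNJ h)

/-- Supplements. -/
theorem sup_eq_top_of_odd {J : Type*} [Group J] [Finite J] (N E C : Subgroup J) [hN : N.Normal]
    (hNC : N ⊔ C = ⊤) (hodd : Odd (E.relIndex C)) (h2 : IsPGroup 2 (J ⧸ N)) :
    N ⊔ E = ⊤ := by
  haveI : Fact (Nat.Prime 2) := ⟨Nat.prime_two⟩
  let f : C →* J ⧸ N := (QuotientGroup.mk' N).comp C.subtype
  have hf : Function.Surjective f := by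
    intro q
    obtain ⟨x, rfl⟩ := QuotientGroup.mk'_surjective N q
    have hx : x ∈ N ⊔ C := by rw [hNC]; exact Subgroup.mem_top x
    obtain ⟨a, ha, b, hb, rfl⟩ := Subgroup.mem_sup_of_normal_left.1 hx
    refine ⟨⟨b, hb⟩, ?_⟩
    show (QuotientGroup.mk' N) b = (QuotientGroup.mk' N) (a * b)
    rw [map_mul, (QuotientGroup.eq_one_iff a).2 ha |> fun h => (show (QuotientGroup.mk' N) a = 1 from h),
      one_mul]
  have h3 : ((E.subgroupOf C).map f).index ∣ (E.subgroupOf C).index := Subgroup.index_map_dvd _ hf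
  have h4 : Odd ((E.subgroupOf C).map f).index := hodd.of_dvd_nat h3
  obtain ⟨n, hn⟩ := h2.index ((E.subgroupOf C).map f)
  have h5 : (E.subgroupOf C).map f = ⊤ := by
    rw [← Subgroup.index_eq_one, hn]
    rw [hn] at h4
    rcases Nat.eq_zero_or_pos n with h | h
    · rw [h, pow_zero]
    · exact absurd h4 (by rw [Nat.not_odd_iff_even]; exact (Nat.even_pow.2 ⟨even_two, h.ne'⟩))
  rw [eq_top_iff]
  intro x _
  have hx : (QuotientGroup.mk' N) x ∈ (E.subgroupOf C).map f := by
    rw [h5]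
    exact Subgroup.mem_top _
  obtain ⟨e, he, hex⟩ := hx
  have hex' : (QuotientGroup.mk' N) (e : J) = (QuotientGroup.mk' N) x := hex
  have h6 : x * (e : J)⁻¹ ∈ N := by
    rw [← QuotientGroup.eq_one_iff]
    have : (QuotientGroup.mk' N) (x * (e : J)⁻¹) = 1 := by
      rw [map_mul, map_inv, hex', mul_inv_cancel]
    exact this
  have h7 : x = (x * (e : J)⁻¹) * e := by group
  rw [h7]
  exact Subgroup.mul_mem _ (Subgroup.mem_sup_left h6)
    (Subgroup.mem_sup_right (Subgroup.mem_subgroupOf.1 he))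

variable [Finite S]

theorem oext_of_loc_aux (hcen : Subgroup.center S = ⊥) {y : S} {K : Subgroup S} (L : LocS y K)
    (J : Subgroup (MulAut S)) (hJ : Odd J.index) (hNJ : ∀ s : S, MulAut.conj s ∈ J)
    (h2 : IsPGroup 2 (J ⧸ (toJ J hNJ).range))
    (hu : ∀ g ∈ J, ∃ s : S, g y = s * y * s⁻¹ ∨ g y = s * y⁻¹ * s⁻¹) :
    ∃ θ : S → ℂ, IsIrrCharacter S θ ∧ ind θ = 1 ∧ Even (charDegree θ) ∧ OExt θ := by
  classical
  haveI := Fintype.ofFinite S
  haveI := Fintype.ofFinite (MulAut S)
  haveI := Fintype.ofFinite J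
  set N := (toJ J hNJ).range with hN
  haveI := Fintype.ofFinite N
  obtain ⟨E, m, ρ, a, c, hEC, hEodd, hρ, hρ1, ha, hc, hsum⟩ := (locJ_of_locS hcen J hNJ L).core
  haveI := Fintype.ofFinite E
  haveI := Fintype.ofFinite (E.subgroupOf N)
  have hcov : N ⊔ Cst (toJ J hNJ y) = ⊤ := by
    rw [eq_top_iff]
    intro g _
    obtain ⟨s, hs⟩ := hu g g.2
    have h3 : (toJ J hNJ s)⁻¹ * g ∈ Cst (toJ J hNJ y) := by
      rw [mem_Cst, conj_toJ, ← map_inv _ y]
      have h4 : (((toJ J hNJ s)⁻¹ * g : J) : MulAut S) y = s⁻¹ * (g : MulAut S) y * s := by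
        show ((MulAut.conj s)⁻¹ * (g : MulAut S)) y = _
        rw [MulAut.mul_apply, ← map_inv, MulAut.conj_apply, inv_inv]
      rw [h4]
      refine hs.imp (fun h => ?_) (fun h => ?_) <;> rw [h] <;> congr 1 <;> group
    have h5 : g = toJ J hNJ s * ((toJ J hNJ s)⁻¹ * g) := by group
    rw [h5]
    exact Subgroup.mul_mem _ (Subgroup.mem_sup_left ⟨s, rfl⟩) (Subgroup.mem_sup_right h3)
  have hNE : N ⊔ E = ⊤ := sup_eq_top_of_odd N E _ hcov hEodd h2
  refine oext_of_multi hcen J hJ hNJ (Finset.range m) (fun j => indFun E (ρ j))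
    (fun j _ => (hρ j).indFun E) (fun j => ⟨a j, ha j⟩) (fun j _ => ⟨E.index, ?_⟩) (c := (c : ℤ))
    (by exact_mod_cast hc) ?_
  · rw [Cfsg.Agent.OddOrderCharacters.IndRes.indFun_apply_one, hρ1]
    push_cast
    ring
  · have h6 := hsum
    rw [Int.cast_natCast, ← h6]
    refine Finset.sum_congr rfl fun j _ => Finset.sum_congr rfl fun k _ => ?_
    show a j * a k * _ = _
    congr 1
    have e1 : classInner (fun t : S => indFun E (ρ j) ⟨MulAut.conj t, hNJ t⟩)
        (fun t : S => indFun E (ρ k) ⟨MulAut.conj t, hNJ t⟩) =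
        classInner (fun n : N => indFun E (ρ j) (n : J)) (fun n : N => indFun E (ρ k) (n : J)) := by
      let e : S ≃* N := MonoidHom.ofInjective (toJ_inj hcen J hNJ)
      rw [classInner_def, classInner_def, Nat.card_congr e.toEquiv]
      congr 1
      exact Fintype.sum_equiv e.toEquiv _ _ fun n => rfl
    rw [e1]
    have e2 : (fun n : N => indFun E (ρ k) (n : J)) =
        indFun (E.subgroupOf N) (fun x => ρ k ⟨((x : N) : J), Subgroup.mem_subgroupOf.1 x.2⟩) :=
      funext fun n => Cfsg.Agent.CharactersDeep.MaxInduced.indFun_restrict N E hNE (ρ k) (hρ k).cf n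
    have e3 : IsClassFunction N (fun n : N => indFun E (ρ j) (n : J)) :=
      (((hρ j).indFun E).comp N.subtype).cf
    rw [e2, ← classInner_conj_symm, Cfsg.Agent.OddOrderCharacters.Clifford.classInner_indFun _ _ _ e3,
      classInner_conj_symm]

/-- **Orthogonal extensions from a real element of odd order.** -/
theorem oext_of_loc (hcen : Subgroup.center S = ⊥) {y : S} {K : Subgroup S} (L : LocS y K)
    (J : Subgroup (MulAut S)) (hJ : Odd J.index)
    (hu : ∀ g ∈ J, ∃ s : S, g y = s * y * s⁻¹ ∨ g y = s * y⁻¹ * s⁻¹) :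
    ∃ θ : S → ℂ, IsIrrCharacter S θ ∧ ind θ = 1 ∧ Even (charDegree θ) ∧ OExt θ := by
  classical
  haveI : Fact (Nat.Prime 2) := ⟨Nat.prime_two⟩
  let P : Sylow 2 J := default
  set P' : Subgroup (MulAut S) := (P : Subgroup J).map J.subtype with hP'
  have hP'J : P' ≤ J := Subgroup.map_subtype_le _
  have hP'p : IsPGroup 2 P' := P.2.map _
  have hP'i : Odd P'.index := by
    have h3 : P'.relIndex J * J.index = P'.index := Subgroup.relIndex_mul_index hP'J
    rw [← h3]
    refine Odd.mul ?_ hJ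
    have h4 : P'.relIndex J = (P : Subgroup J).index := by
      rw [Subgroup.relIndex, hP', Subgroup.subgroupOf,
        Subgroup.comap_map_eq_self_of_injective J.subtype_injective]
    rw [h4]
    have := P.not_dvd_index
    exact Nat.odd_iff.2 (by omega)
  set J' : Subgroup (MulAut S) := (MulAut.conj : S →* MulAut S).range ⊔ P' with hJ'
  have hNJ' : ∀ s : S, MulAut.conj s ∈ J' := fun s => Subgroup.mem_sup_left ⟨s, rfl⟩
  have hP'J' : P' ≤ J' := le_sup_right
  refine oext_of_loc_aux hcen L J' ?_ hNJ' ?_ ?_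
  · exact hP'i.of_dvd_nat (Subgroup.index_dvd_of_le hP'J')
  · -- the quotient is a `2`-group
    have hsurj : Function.Surjective ((QuotientGroup.mk' (toJ J' hNJ').range).comp
        (Subgroup.inclusion hP'J')) := by
      intro q
      obtain ⟨x, rfl⟩ := QuotientGroup.mk'_surjective _ q
      obtain ⟨_, ⟨s, rfl⟩, b, hb, hx⟩ := Subgroup.mem_sup_of_normal_left.1 x.2
      refine ⟨⟨b, hb⟩, ?_⟩
      have h5 : x = toJ J' hNJ' s * Subgroup.inclusion hP'J' ⟨b, hb⟩ := Subtype.ext hx.symm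
      have h6 : (QuotientGroup.mk' (toJ J' hNJ').range) (toJ J' hNJ' s) = 1 :=
        (QuotientGroup.eq_one_iff _).2 ⟨s, rfl⟩
      rw [h5, map_mul, h6, one_mul]
      rfl
    exact hP'p.of_surjective _ hsurj
  · intro g hg
    obtain ⟨_, ⟨s, rfl⟩, b, hb, rfl⟩ := Subgroup.mem_sup_of_normal_left.1 hg
    obtain ⟨t, ht⟩ := hu b (hP'J hb)
    refine ⟨s * t, ?_⟩
    rw [MulAut.mul_apply, MulAut.conj_apply]
    refine ht.imp (fun h => ?_) (fun h => ?_) <;> rw [h] <;> group

end

end Cfsg.Agent.H727.Orth
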