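import Cfsg.Agent.H727.Orth.Crit
import Cfsg.Agent.H727.Orth.Mod2

/-!
# Orthogonal extensions by parity with coefficients
-/

set_option autoImplicit false
set_option linter.unusedSectionVars false
set_option linter.style.haveILetI false

namespace Cfsg.Agent.H727.Orth

open Cfsg
open scoped ComplexConjugate
open Cfsg.Agent.Characters.Core
open Cfsg.Agent.H705.StrongLin (ind ind_eq real_of_ind)
open Cfsg.Agent.OddOrderCharacters.NormalInduced (conjFn)
open Cfsg.Agent.OddOrderCharacters.PF9.CliffGen (resTo inertia mem_inertia le_inertia)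
open Cfsg.Agent.H694 (mu mu_eq irr_mu_spec RChar odd_relIndex exists_fixed)

universe u v

/-- The orthogonal extension by parity, with coefficients. -/
theorem orth_of_multi {G : Type u} [Group G] [Fintype G] (N : Subgroup G) [hN : N.Normal]
    [Fintype N] (J : Subgroup G) [Fintype J] (hJ : Odd J.index)
    (hNJ : N ≤ J) (s : Finset ℕ) (π : ℕ → J → ℂ) (hπ : ∀ j ∈ s, RChar (π j)) (a : ℕ → OI)
    (hb : ∀ j ∈ s, ∃ b : ℤ, π j 1 = 2 * b) {c : ℤ} (hc : Odd c)
    (hsum : ∑ j ∈ s, ∑ k ∈ s, (a j : ℂ) * (a k : ℂ) *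
      classInner (resTo hNJ (π j)) (resTo hNJ (π k)) = c) :
    ∃ (φ : N → ℂ) (hφ : IsIrrCharacter N φ), ind φ = 1 ∧ Even (charDegree φ) ∧
      ∃ χ : inertia N φ → ℂ, IsIrrCharacter (inertia N φ) χ ∧ ind χ = 1 ∧
        ∀ n : N, χ ⟨n, le_inertia (isIrr_isClassFunction hφ) n.2⟩ = φ n := by
  classical
  obtain ⟨r, hr, hodd⟩ := parity_multi s (fun j => resTo hNJ (π j))
    (fun j hj => (hπ j hj).comp (Subgroup.inclusion hNJ)) a hb hc hsum
  haveI : Fact (Nat.Prime 2) := ⟨Nat.prime_two⟩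
  let P : Sylow 2 J := default
  set P' : Subgroup G := (P : Subgroup J).map J.subtype with hP'
  have hP'J : P' ≤ J := Subgroup.map_subtype_le _
  have hP'p : IsPGroup 2 P' := P.2.map _
  have hP'i : Odd P'.index := by
    have h3 : P'.relIndex J * J.index = P'.index := Subgroup.relIndex_mul_index hP'J
    rw [← h3]
    refine Odd.mul ?_ hJ
    have h4 : P'.relIndex J = (P : Subgroup J).index := by
      rw [Subgroup.relIndex, hP', Subgroup.subgroupOf,
        Subgroup.comap_map_eq_self_of_injective J.subtype_injective]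
    rw [h4]
    have := P.not_dvd_index
    exact Nat.odd_iff.2 (by omega)
  let X : Set (IrrCharacter N) := {φ | ind (φ : N → ℂ) = 1 ∧ Even (charDegree (φ : N → ℂ)) ∧
    (red (∑ j ∈ s, a j * (mu (resTo hNJ (π j)) φ : OI))) ^ 2 = r}
  obtain ⟨φ, hφX, hPφ⟩ := exists_fixed N P' hP'p X hodd (by
    intro g hg φ hφ
    have hgJ : g ∈ J := hP'J hg
    refine ⟨?_, ?_, ?_⟩
    · show ind (conjFn N (φ : N → ℂ) g) = 1
      rw [← hφ.1, ind_eq, ind_eq]
      congr 1
      refine Fintype.sum_equiv (MulAut.conjNormal g : MulAut N).toEquiv _ _ fun n => ?_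
      show (φ : N → ℂ) ⟨g * (n * n : N) * g⁻¹, _⟩ = (φ : N → ℂ)
        ((MulAut.conjNormal g : MulAut N) n * (MulAut.conjNormal g : MulAut N) n)
      rw [← map_mul]
      congr 1
    · show Even (charDegree (conjFn N (φ : N → ℂ) g))
      rw [charDegree, Cfsg.Agent.OddOrderCharacters.IndRes.conjFn_apply_one]
      exact hφ.2.1
    · show (red (∑ j ∈ s, a j * (mu (resTo hNJ (π j)) (conjFn N (φ : N → ℂ) g) : OI))) ^ 2 = r
      have h6 : ∀ j ∈ s, mu (resTo hNJ (π j)) (conjFn N (φ : N → ℂ) g) =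
          mu (resTo hNJ (π j)) φ := by
        intro j hj
        have h5 : resTo hNJ (π j) = resTo hNJ (π j) ∘ (MulAut.conjNormal g : MulAut N) := by
          funext n
          have := (hπ j hj).cf ⟨n, hNJ n.2⟩ ⟨g, hgJ⟩
          exact this.symm
        rw [mu, mu]
        congr 2
        conv_lhs => rw [h5]
        exact Cfsg.Agent.Characters.Clifford.classInner_comp_mulEquiv
          (MulAut.conjNormal g : MulAut N) _ _
      rw [Finset.sum_congr rfl fun j hj => by rw [h6 j hj]]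
      exact hφ.2.2)
  obtain ⟨j, hj, hjodd⟩ : ∃ j ∈ s, Odd (mu (resTo hNJ (π j)) (φ : N → ℂ)) := by
    by_contra hcon
    push Not at hcon
    apply hr
    rw [← hφX.2.2, map_sum]
    rw [Finset.sum_eq_zero]
    · simp
    · intro j hj
      have := hcon j hj
      rw [Int.not_odd_iff_even] at this
      rw [map_mul, map_intCast, int_red, if_pos this, mul_zero]
  exact ⟨φ, φ.2, hφX.1, hφX.2.1, orth_of_real_rep N φ.2 hφX.1 J hNJ (hπ j hj) hjodd
    (odd_relIndex hP'J hPφ hP'i)⟩

variable {S : Type u} [Group S]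

/-- **Orthogonal extension by parity, with coefficients.** -/
theorem oext_of_multi [Fintype S] (hcen : Subgroup.center S = ⊥) (J : Subgroup (MulAut S)) [Fintype J]
    (hJ : Odd J.index) (hNJ : ∀ s : S, MulAut.conj s ∈ J) (s : Finset ℕ) (π : ℕ → J → ℂ)
    (hπ : ∀ j ∈ s, RChar (π j)) (a : ℕ → OI)
    (hb : ∀ j ∈ s, ∃ b : ℤ, π j 1 = 2 * b) {c : ℤ} (hc : Odd c)
    (hsum : ∑ j ∈ s, ∑ k ∈ s, (a j : ℂ) * (a k : ℂ) *
      classInner (fun t : S => π j ⟨MulAut.conj t, hNJ t⟩)
        (fun t : S => π k ⟨MulAut.conj t, hNJ t⟩) = c) :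
    ∃ θ : S → ℂ, IsIrrCharacter S θ ∧ ind θ = 1 ∧ Even (charDegree θ) ∧ OExt θ := by
  classical
  haveI := Fintype.ofFinite (MulAut S)
  set N : Subgroup (MulAut S) := (MulAut.conj : S →* MulAut S).range with hN
  haveI := Fintype.ofFinite N
  have hNJ' : N ≤ J := by
    rintro _ ⟨s, rfl⟩
    exact hNJ s
  have hin : ∀ F G : N → ℂ, classInner F G =
      classInner (fun s => F (innEquiv hcen s)) (fun s => G (innEquiv hcen s)) := by
    intro F G
    rw [classInner_def, classInner_def, ← Nat.card_congr (innEquiv hcen).toEquiv]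
    congr 1
    symm
    exact Fintype.sum_equiv (innEquiv hcen).toEquiv _ _ fun n => rfl
  obtain ⟨φ, hφ, h1, h2, χ, h4, h5, h6⟩ := orth_of_multi N J hJ hNJ' s π hπ a hb hc (by
    rw [← hsum]
    refine Finset.sum_congr rfl fun j _ => Finset.sum_congr rfl fun k _ => ?_
    rw [hin]
    rfl)
  exact ⟨fun s => φ (innEquiv hcen s), isIrr_inn hcen hφ, by rw [ind_inn hcen]; exact h1,
    by rw [charDegree_inn hcen]; exact h2, oext_of_inertia hcen φ ⟨χ, h4, h5, fun n hn => h6 n⟩⟩

end Cfsg.Agent.H727.Orth
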