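import Cfsg.Agent.H694.DData

/-!
# An even number of orbits on pairs

`even_pairs` : `𝒳`, `𝒴` sets of subgroups, `f : 𝒳 → 𝒴` equivariant with fibres of three elements,
stabilizers of elements of `𝒳` are `2`-groups and act nontrivially on the fibres: the number of orbits on
`𝒳 × 𝒳` is even.
-/

set_option autoImplicit false
set_option linter.unusedSectionVars false
set_option linter.style.haveILetI false

namespace Cfsg.Agent.H727.Orth

open Cfsg.Agent.H694 (pairRel map_conj_one map_conj_conj)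

universe u

variable {T : Type u} [Group T]

/-- the stabilizer of a subgroup under conjugation -/
def nrm (H : Subgroup T) : Subgroup T where
  carrier := {g | H.map (MulAut.conj g).toMonoidHom = H}
  one_mem' := map_conj_one H
  mul_mem' {a b} ha hb := by
    show H.map (MulAut.conj (a * b)).toMonoidHom = H
    have ha' : H.map (MulAut.conj a).toMonoidHom = H := ha
    have hb' : H.map (MulAut.conj b).toMonoidHom = H := hb
    rw [← map_conj_conj, hb', ha']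
  inv_mem' {a} ha := by
    show H.map (MulAut.conj a⁻¹).toMonoidHom = H
    have ha' : H.map (MulAut.conj a).toMonoidHom = H := ha
    conv_lhs => rw [← ha']
    rw [map_conj_conj, inv_mul_cancel, map_conj_one]

theorem mem_nrm {H : Subgroup T} {g : T} : g ∈ nrm H ↔ H.map (MulAut.conj g).toMonoidHom = H := Iff.rfl

theorem map_conj_inv_eq {H K : Subgroup T} {g : T} (h : H.map (MulAut.conj g).toMonoidHom = K) :
    K.map (MulAut.conj g⁻¹).toMonoidHom = H := by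
  rw [← h, map_conj_conj, inv_mul_cancel, map_conj_one]

/-- the fibre -/
def Fib (𝒳 : Set (Subgroup T)) (f : Subgroup T → Subgroup T) (K : Subgroup T) : Type u :=
  {P : Subgroup T // P ∈ 𝒳 ∧ f P = K}

variable [Finite T]

theorem fib_spec (𝒳 : Set (Subgroup T)) (f : Subgroup T → Subgroup T)
    (hX : ∀ g : T, ∀ H ∈ 𝒳, H.map (MulAut.conj g).toMonoidHom ∈ 𝒳)
    (hfg : ∀ g : T, ∀ P ∈ 𝒳, f (P.map (MulAut.conj g).toMonoidHom) = (f P).map (MulAut.conj g).toMonoidHom)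
    {x K : Subgroup T} (h3 : Nat.card {P : Subgroup T // P ∈ 𝒳 ∧ f P = K} = 3)
    (h2 : IsPGroup 2 (nrm x))
    (hs : ∃ t ∈ nrm x, t ∈ nrm K ∧ ∃ P ∈ 𝒳, f P = K ∧ P.map (MulAut.conj t).toMonoidHom ≠ P) :
    ∃ P0 P1 P2 : Subgroup T, P0 ∈ 𝒳 ∧ P1 ∈ 𝒳 ∧ P2 ∈ 𝒳 ∧ f P0 = K ∧ f P1 = K ∧ f P2 = K ∧ P0 ≠ P1 ∧
      (∀ P ∈ 𝒳, f P = K → P = P0 ∨ P = P1 ∨ P = P2) ∧
      (∃ t ∈ nrm x, P1.map (MulAut.conj t).toMonoidHom = P2) ∧
      (∀ g ∈ nrm x, g ∈ nrm K → P0.map (MulAut.conj g).toMonoidHom = P0) := by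
  classical
  haveI : Fact (Nat.Prime 2) := ⟨Nat.prime_two⟩
  set A : Subgroup T := nrm x ⊓ nrm K with hA
  have hA2 : IsPGroup 2 A := h2.to_le inf_le_left
  let Fb := {P : Subgroup T // P ∈ 𝒳 ∧ f P = K}
  have hmem : ∀ (a : A) (P : Fb), (P.1.map (MulAut.conj (a : T)).toMonoidHom ∈ 𝒳 ∧
      f (P.1.map (MulAut.conj (a : T)).toMonoidHom) = K) := fun a P => by
    refine ⟨hX _ _ P.2.1, ?_⟩
    rw [hfg _ _ P.2.1, P.2.2]
    exact a.2.2
  let act : MulAction A Fb :=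
    { smul := fun a P => ⟨P.1.map (MulAut.conj (a : T)).toMonoidHom, hmem a P⟩
      one_smul := fun P => Subtype.ext (map_conj_one _)
      mul_smul := fun a b P => Subtype.ext (map_conj_conj _ _ _).symm }
  have h4 := hA2.card_modEq_card_fixedPoints Fb
  have h5 : Odd (Nat.card (MulAction.fixedPoints A Fb)) := by
    rw [Nat.odd_iff, ← h4, h3]
  obtain ⟨P0, hP0⟩ : (MulAction.fixedPoints A Fb).Nonempty := by
    rw [Set.nonempty_iff_ne_empty]
    intro h6
    rw [h6] at h5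
    simp at h5
  have hfix : ∀ g ∈ nrm x, g ∈ nrm K → P0.1.map (MulAut.conj g).toMonoidHom = P0.1 := fun g hg hg' =>
    congrArg Subtype.val (hP0 ⟨g, hg, hg'⟩)
  obtain ⟨t, ht, htK, P1, hP1, hfP1, hne⟩ := hs
  set P2 := P1.map (MulAut.conj t).toMonoidHom with hP2
  have hP2X : P2 ∈ 𝒳 := hX _ _ hP1
  have hfP2 : f P2 = K := by
    rw [hP2, hfg _ _ hP1, hfP1]
    exact htK
  have h01 : P0.1 ≠ P1 := by
    intro h
    apply hne
    have h6 := hfix t ht htK
    rw [h] at h6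
    exact h6
  have h02 : P0.1 ≠ P2 := by
    intro h
    apply h01
    have h6 : P2.map (MulAut.conj t⁻¹).toMonoidHom = P1 := map_conj_inv_eq hP2.symm
    rw [← h6, ← h]
    exact (hfix _ (inv_mem ht) (inv_mem htK)).symm
  refine ⟨P0.1, P1, P2, P0.2.1, hP1, hP2X, P0.2.2, hfP1, hfP2, h01, ?_, ⟨t, ht, hP2.symm⟩, hfix⟩
  intro P hP hfP
  by_contra hno
  push Not at hno
  haveI : Finite Fb := Subtype.finite
  haveI := Fintype.ofFinite Fb
  have h6 : ({P0, ⟨P1, hP1, hfP1⟩, ⟨P2, hP2X, hfP2⟩, ⟨P, hP, hfP⟩} : Finset Fb).card = 4 := by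
    rw [Finset.card_insert_of_notMem, Finset.card_insert_of_notMem, Finset.card_insert_of_notMem,
      Finset.card_singleton]
    · rw [Finset.mem_singleton]
      exact fun h => hno.2.2 (congrArg Subtype.val h).symm
    · rw [Finset.mem_insert, Finset.mem_singleton, not_or]
      exact ⟨fun h => hne (congrArg Subtype.val h).symm, fun h => hno.2.1 (congrArg Subtype.val h).symm⟩
    · rw [Finset.mem_insert, Finset.mem_insert, Finset.mem_singleton, not_or, not_or]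
      exact ⟨fun h => h01 (congrArg Subtype.val h), fun h => h02 (congrArg Subtype.val h),
        fun h => hno.1 (congrArg Subtype.val h).symm⟩
  have h7 := Finset.card_le_univ ({P0, ⟨P1, hP1, hfP1⟩, ⟨P2, hP2X, hfP2⟩, ⟨P, hP, hfP⟩} : Finset Fb)
  rw [h6, ← Nat.card_eq_fintype_card, h3] at h7
  omega

/-- **An even number of orbits on pairs.** -/
theorem even_pairs (𝒳 𝒴 : Set (Subgroup T)) (f : Subgroup T → Subgroup T)
    (hX : ∀ g : T, ∀ H ∈ 𝒳, H.map (MulAut.conj g).toMonoidHom ∈ 𝒳)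
    (hf : ∀ P ∈ 𝒳, f P ∈ 𝒴)
    (hfg : ∀ g : T, ∀ P ∈ 𝒳, f (P.map (MulAut.conj g).toMonoidHom) = (f P).map (MulAut.conj g).toMonoidHom)
    (h3 : ∀ K ∈ 𝒴, Nat.card {P : Subgroup T // P ∈ 𝒳 ∧ f P = K} = 3)
    (h2 : ∀ x ∈ 𝒳, IsPGroup 2 (nrm x))
    (hs : ∀ x ∈ 𝒳, ∀ K ∈ 𝒴, ∃ t ∈ nrm x, t ∈ nrm K ∧ ∃ P ∈ 𝒳, f P = K ∧
      P.map (MulAut.conj t).toMonoidHom ≠ P) :
    Even (Nat.card (Quotient (pairRel 𝒳 𝒳))) := by
  classical
  let F : 𝒳 × 𝒳 → 𝒳 × 𝒴 := fun z => (z.1, ⟨f z.2, hf _ z.2.2⟩)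
  have hF : ∀ a b, (pairRel 𝒳 𝒳) a b → (pairRel 𝒳 𝒴) (F a) (F b) := by
    rintro a b ⟨g, h4, h5⟩
    refine ⟨g, h4, ?_⟩
    show (f a.2).map (MulAut.conj g).toMonoidHom = f b.2
    rw [← hfg _ _ a.2.2, h5]
  let q : Quotient (pairRel 𝒳 𝒳) → Quotient (pairRel 𝒳 𝒴) := Quotient.map F hF
  have hfib : ∀ c : Quotient (pairRel 𝒳 𝒴), Nat.card {a // q a = c} = 2 := by
    intro c
    induction c using Quotient.inductionOn with
    | _ c =>
      obtain ⟨⟨x, hx⟩, ⟨K, hK⟩⟩ := c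
      obtain ⟨P0, P1, P2, hP0, hP1, hP2, hf0, hf1, hf2, h01, hall, ⟨t, ht, ht12⟩, hfix⟩ :=
        fib_spec 𝒳 f hX hfg (h3 K hK) (h2 x hx) (hs x hx K hK)
      have hq : ∀ (P : Subgroup T) (hP : P ∈ 𝒳), f P = K →
          q (Quotient.mk _ (⟨x, hx⟩, ⟨P, hP⟩)) = Quotient.mk _ (⟨x, hx⟩, ⟨K, hK⟩) := by
        intro P hP hfP
        show Quotient.mk (pairRel 𝒳 𝒴) (F (⟨x, hx⟩, ⟨P, hP⟩)) = _
        congr 1
        exact Prod.ext rfl (Subtype.ext hfP)
      rw [Nat.card_eq_two_iff]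
      refine ⟨⟨_, hq P0 hP0 hf0⟩, ⟨_, hq P1 hP1 hf1⟩, ?_, ?_⟩
      · intro h
        obtain ⟨g, h5, h6⟩ : (pairRel 𝒳 𝒳) (⟨x, hx⟩, ⟨P0, hP0⟩) (⟨x, hx⟩, ⟨P1, hP1⟩) :=
          Quotient.exact (congrArg Subtype.val h)
        have h5' : g ∈ nrm x := h5
        have h6' : P0.map (MulAut.conj g).toMonoidHom = P1 := h6
        have h7 : g ∈ nrm K := by
          rw [mem_nrm, ← hf0, ← hfg _ _ hP0, h6', hf1, hf0]
        exact h01 ((hfix g h5' h7).symm.trans h6')
      · rw [Set.eq_univ_iff_forall]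
        rintro ⟨a, ha⟩
        revert ha
        induction a using Quotient.inductionOn with
        | _ a =>
          intro ha
          obtain ⟨⟨x', hx'⟩, ⟨P', hP'⟩⟩ := a
          obtain ⟨g, h5, h6⟩ : (pairRel 𝒳 𝒴) (F (⟨x', hx'⟩, ⟨P', hP'⟩)) (⟨x, hx⟩, ⟨K, hK⟩) :=
            Quotient.exact ha
          have h5' : x'.map (MulAut.conj g).toMonoidHom = x := h5
          have h6' : (f P').map (MulAut.conj g).toMonoidHom = K := h6
          have h7 : P'.map (MulAut.conj g).toMonoidHom ∈ 𝒳 := hX _ _ hP'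
          have h8 : f (P'.map (MulAut.conj g).toMonoidHom) = K := by rw [hfg _ _ hP', h6']
          have h9 : (Quotient.mk (pairRel 𝒳 𝒳) (⟨x', hx'⟩, ⟨P', hP'⟩)) =
              Quotient.mk _ (⟨x, hx⟩, ⟨P'.map (MulAut.conj g).toMonoidHom, h7⟩) :=
            Quotient.sound ⟨g, h5', rfl⟩
          rw [Set.mem_insert_iff, Set.mem_singleton_iff, Subtype.mk.injEq, Subtype.mk.injEq, h9]
          rcases hall _ h7 h8 with h10 | h10 | h10
          · left
            congr 1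
            exact Prod.ext rfl (Subtype.ext h10)
          · right
            congr 1
            exact Prod.ext rfl (Subtype.ext h10)
          · right
            apply Quotient.sound
            refine ⟨t⁻¹, ?_, ?_⟩
            · exact inv_mem ht
            · show (P'.map (MulAut.conj g).toMonoidHom).map (MulAut.conj t⁻¹).toMonoidHom = P1
              rw [h10]
              exact map_conj_inv_eq ht12
  have h4 : Nat.card (Quotient (pairRel 𝒳 𝒳)) = Nat.card (Σ c, {a // q a = c}) :=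
    Nat.card_congr (Equiv.sigmaFiberEquiv q).symm
  haveI : Finite 𝒳 := Subtype.finite
  haveI : Finite 𝒴 := Subtype.finite
  haveI := Fintype.ofFinite (Quotient (pairRel 𝒳 𝒴))
  rw [h4, Nat.card_sigma, Finset.sum_congr rfl (fun c _ => hfib c), Finset.sum_const, smul_eq_mul]
  exact even_two.mul_left _

end Cfsg.Agent.H727.Orth
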