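import Mathlib

/-!
# Extending a real representation that occurs with odd multiplicity

`exists_extension`: `N` normal in `I`, `σ` an absolutely irreducible real representation of `N`
whose conjugates are all equivalent to `σ`, `ρ` a real representation of `I` such that
`Hom_N(σ, ρ)` has odd dimension. Then `σ` extends to `I`.
-/

set_option autoImplicit false

namespace Cfsg.Agent.H727.Orth

open Module

section real

variable {I : Type*} [Group I] (N : Subgroup I) [hN : N.Normal]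
  {V W : Type*} [AddCommGroup V] [Module ℝ V] [AddCommGroup W] [Module ℝ W]
  (ρ : Representation ℝ I V) (σ : Representation ℝ N W)

/-- The group of pairs `(g, D)` with `D ∘ σ n = σ (g n g⁻¹) ∘ D`. -/
def Pair : Subgroup (I × (W ≃ₗ[ℝ] W)) where
  carrier := {x | ∀ (n : N) (w : W),
    x.2 (σ n w) = σ ⟨x.1 * n * x.1⁻¹, hN.conj_mem n n.2 x.1⟩ (x.2 w)}
  one_mem' := by
    intro n w
    have : (⟨(1 : I × (W ≃ₗ[ℝ] W)).1 * n * (1 : I × (W ≃ₗ[ℝ] W)).1⁻¹,
      hN.conj_mem n n.2 _⟩ : N) = n := Subtype.ext (by simp)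
    rw [this]
    rfl
  mul_mem' := by
    intro x y hx hy n w
    show x.2 (y.2 (σ n w)) = _
    rw [hy, hx]
    show σ _ (x.2 (y.2 w)) = σ _ (x.2 (y.2 w))
    congr 2
    apply Subtype.ext
    show x.1 * (y.1 * n * y.1⁻¹) * x.1⁻¹ = (x.1 * y.1) * n * (x.1 * y.1)⁻¹
    group
  inv_mem' := by
    intro x hx n w
    show x.2.symm (σ n w) = σ _ (x.2.symm w)
    rw [LinearEquiv.symm_apply_eq, hx, LinearEquiv.apply_symm_apply]
    congr 2
    apply Subtype.ext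
    show (n : I) = x.1 * (x.1⁻¹ * n * x.1⁻¹⁻¹) * x.1⁻¹
    group

/-- The space of intertwining maps. -/
def HomSp : Submodule ℝ (W →ₗ[ℝ] V) where
  carrier := {f | ∀ (n : N) (w : W), f (σ n w) = ρ n (f w)}
  zero_mem' := by intro n w; simp
  add_mem' := by intro f g hf hg n w; simp [hf n w, hg n w]
  smul_mem' := by intro c f hf n w; simp [hf n w]

/-- The action of the pairs on the intertwining maps. -/
def act : Representation ℝ (Pair N σ) (HomSp N ρ σ) where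
  toFun x :=
    { toFun := fun f => ⟨ρ (x : I × (W ≃ₗ[ℝ] W)).1 ∘ₗ (f : W →ₗ[ℝ] V) ∘ₗ
          ((x : I × (W ≃ₗ[ℝ] W)).2.symm : W →ₗ[ℝ] W), by
        intro n w
        have h1 := (Pair N σ).inv_mem x.2 n w
        have h2 : (x : I × (W ≃ₗ[ℝ] W)).2.symm (σ n w) =
          σ ⟨(x : I × (W ≃ₗ[ℝ] W)).1⁻¹ * n * (x : I × (W ≃ₗ[ℝ] W)).1⁻¹⁻¹,
            hN.conj_mem n n.2 _⟩ ((x : I × (W ≃ₗ[ℝ] W)).2.symm w) := h1
        show ρ (x : I × (W ≃ₗ[ℝ] W)).1 ((f : W →ₗ[ℝ] V)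
          ((x : I × (W ≃ₗ[ℝ] W)).2.symm (σ n w))) = ρ n (ρ (x : I × (W ≃ₗ[ℝ] W)).1
            ((f : W →ₗ[ℝ] V) ((x : I × (W ≃ₗ[ℝ] W)).2.symm w)))
        rw [h2, f.2, ← Module.End.mul_apply, ← map_mul, ← Module.End.mul_apply, ← map_mul]
        congr 2
        show (x : I × (W ≃ₗ[ℝ] W)).1 * ((x : I × (W ≃ₗ[ℝ] W)).1⁻¹ * n *
          (x : I × (W ≃ₗ[ℝ] W)).1⁻¹⁻¹) = n * (x : I × (W ≃ₗ[ℝ] W)).1
        group⟩
      map_add' := fun f g => by
        apply Subtype.ext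
        ext w
        simp
      map_smul' := fun c f => by
        apply Subtype.ext
        ext w
        simp }
  map_one' := by
    ext f w
    show ρ 1 ((f : W →ₗ[ℝ] V) w) = _
    rw [map_one]
    rfl
  map_mul' x y := by
    ext f w
    show ρ ((x : I × (W ≃ₗ[ℝ] W)).1 * (y : I × (W ≃ₗ[ℝ] W)).1) ((f : W →ₗ[ℝ] V)
      ((y : I × (W ≃ₗ[ℝ] W)).2.symm ((x : I × (W ≃ₗ[ℝ] W)).2.symm w))) = _
    rw [map_mul]
    rfl

/-- The determinant of the action. -/
noncomputable def dt : Pair N σ →* ℝ := (LinearMap.det).comp (act N ρ σ)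

theorem dt_scalar {c : ℝ} (hc : c ≠ 0) (h : ((1 : I), LinearEquiv.smulOfNeZero ℝ W c hc) ∈ Pair N σ) :
    dt N ρ σ ⟨_, h⟩ = c⁻¹ ^ finrank ℝ (HomSp N ρ σ) := by
  have h1 : act N ρ σ ⟨_, h⟩ = c⁻¹ • (1 : Module.End ℝ (HomSp N ρ σ)) := by
    ext f w
    show ρ 1 ((f : W →ₗ[ℝ] V) ((LinearEquiv.smulOfNeZero ℝ W c hc).symm w)) =
      c⁻¹ • (f : W →ₗ[ℝ] V) w
    have h2 : (LinearEquiv.smulOfNeZero ℝ W c hc).symm w = c⁻¹ • w := by
      rw [LinearEquiv.symm_apply_eq]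
      show w = c • (c⁻¹ • w)
      rw [smul_smul, mul_inv_cancel₀ hc, one_smul]
    rw [h2, map_smul, map_one]
    rfl
  show LinearMap.det (act N ρ σ ⟨_, h⟩) = _
  rw [h1]
  erw [LinearMap.det_smul]
  simp

/-- The odd real root. -/
theorem exists_odd_root {e : ℕ} (he : Odd e) {t : ℝ} (ht : t ≠ 0) : ∃ c : ℝ, c ≠ 0 ∧ c ^ e = t := by
  have he0 : e ≠ 0 := by
    rintro rfl
    exact absurd he (by decide)
  rcases lt_or_gt_of_ne ht with h | h
  · refine ⟨-((-t) ^ ((1 : ℝ) / e)), ?_, ?_⟩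
    · exact neg_ne_zero.2 (Real.rpow_pos_of_pos (by linarith) _).ne'
    · rw [he.neg_pow, ← Real.rpow_natCast, ← Real.rpow_mul (by linarith), one_div,
        inv_mul_cancel₀ (by exact_mod_cast he0), Real.rpow_one, neg_neg]
  · refine ⟨t ^ ((1 : ℝ) / e), (Real.rpow_pos_of_pos h _).ne', ?_⟩
    rw [← Real.rpow_natCast, ← Real.rpow_mul h.le, one_div,
        inv_mul_cancel₀ (by exact_mod_cast he0), Real.rpow_one]

theorem eq_one_of_odd_pow {e : ℕ} (he : Odd e) {c : ℝ} (h : c ^ e = 1) : c = 1 :=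
  he.strictMono_pow.injective (by simpa using h)

/-- **Extension of real representations of odd multiplicity.** -/
theorem exists_extension [FiniteDimensional ℝ V] [FiniteDimensional ℝ W]
    (hend : ∀ T : W →ₗ[ℝ] W, (∀ (n : N) (w : W), T (σ n w) = σ n (T w)) → ∃ c : ℝ, ∀ w, T w = c • w)
    (hinv : ∀ g : I, ∃ D : W ≃ₗ[ℝ] W, ∀ (n : N) (w : W),
      D (σ n w) = σ ⟨g * n * g⁻¹, hN.conj_mem n n.2 g⟩ (D w))
    (hodd : Odd (finrank ℝ (HomSp N ρ σ))) (hW : Nontrivial W) :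
    ∃ D : Representation ℝ I W, ∀ n : N, D n = σ n := by
  set K := (dt N ρ σ).ker with hK
  let π : K →* I := (MonoidHom.fst I (W ≃ₗ[ℝ] W)).comp ((Pair N σ).subtype.comp K.subtype)
  have hinj : Function.Injective π := by
    rw [injective_iff_map_eq_one]
    rintro ⟨⟨⟨g, D⟩, hD⟩, hk⟩ h1
    have hg : g = 1 := h1
    subst hg
    obtain ⟨c, hc⟩ := hend (D : W →ₗ[ℝ] W) (by
      intro n w
      have h2 := hD n w
      have h3 : (⟨((1 : I), D).1 * n * ((1 : I), D).1⁻¹, hN.conj_mem n n.2 _⟩ : N) = n :=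
        Subtype.ext (by simp)
      rw [h3] at h2
      exact h2)
    have hc0 : c ≠ 0 := by
      rintro rfl
      obtain ⟨w, hw⟩ := exists_ne (0 : W)
      apply hw
      apply D.injective
      have := hc w
      rw [zero_smul] at this
      rw [map_zero]
      exact this
    have hDc : D = LinearEquiv.smulOfNeZero ℝ W c hc0 := LinearEquiv.ext fun w => hc w
    subst hDc
    have h4 : dt N ρ σ ⟨_, hD⟩ = 1 := hk
    rw [dt_scalar N ρ σ hc0 hD] at h4
    have h5 : c = 1 := inv_eq_one.1 (eq_one_of_odd_pow hodd h4)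
    subst h5
    apply Subtype.ext
    apply Subtype.ext
    refine Prod.ext rfl (LinearEquiv.ext fun w => ?_)
    show (1 : ℝ) • w = w
    rw [one_smul]
  have hsurj : Function.Surjective π := by
    intro g
    obtain ⟨D, hD⟩ := hinv g
    have hmem : (g, D) ∈ Pair N σ := hD
    set t := dt N ρ σ ⟨(g, D), hmem⟩ with ht
    have ht0 : t ≠ 0 := by
      intro h0
      have h1 := map_mul (dt N ρ σ) ⟨(g, D), hmem⟩ (⟨(g, D), hmem⟩ : Pair N σ)⁻¹
      rw [mul_inv_cancel, map_one, ← ht, h0, zero_mul] at h1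
      exact one_ne_zero h1
    obtain ⟨c, hc0, hc⟩ := exists_odd_root hodd ht0
    have hsc : ((1 : I), LinearEquiv.smulOfNeZero ℝ W c hc0) ∈ Pair N σ := by
      intro n w
      have h3 : (⟨((1 : I), LinearEquiv.smulOfNeZero ℝ W c hc0).1 * n *
          ((1 : I), LinearEquiv.smulOfNeZero ℝ W c hc0).1⁻¹, hN.conj_mem n n.2 _⟩ : N) = n :=
        Subtype.ext (by simp)
      rw [h3]
      show c • σ n w = σ n (c • w)
      rw [map_smul]
    refine ⟨⟨⟨_, hsc⟩ * ⟨(g, D), hmem⟩, ?_⟩, ?_⟩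
    · rw [hK, MonoidHom.mem_ker, map_mul, dt_scalar N ρ σ hc0 hsc, ← ht, ← hc, ← mul_pow,
        inv_mul_cancel₀ hc0, one_pow]
    · show (1 : I) * g = g
      rw [one_mul]
  let e : K ≃* I := MulEquiv.ofBijective π ⟨hinj, hsurj⟩
  let s : K →* (W ≃ₗ[ℝ] W) :=
    (MonoidHom.snd I (W ≃ₗ[ℝ] W)).comp ((Pair N σ).subtype.comp K.subtype)
  let D : Representation ℝ I W :=
    ((LinearEquiv.automorphismGroup.toLinearMapMonoidHom : (W ≃ₗ[ℝ] W) →* (W →ₗ[ℝ] W)).comp s).comp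
      e.symm.toMonoidHom
  refine ⟨D, fun n => ?_⟩
  -- the element `(n, σ n)`
  let E : W ≃ₗ[ℝ] W := LinearEquiv.ofLinearMap (σ n) (σ n⁻¹) (by
    rw [← Module.End.mul_eq_comp, ← map_mul, mul_inv_cancel, map_one]; rfl) (by
    rw [← Module.End.mul_eq_comp, ← map_mul, inv_mul_cancel, map_one]; rfl)
  have hE : ((n : I), E) ∈ Pair N σ := by
    intro m w
    show σ n (σ m w) = σ _ (σ n w)
    rw [← Module.End.mul_apply, ← Module.End.mul_apply, ← map_mul, ← map_mul]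
    congr 2
    apply Subtype.ext
    show (n : I) * m = n * m * (n : I)⁻¹ * n
    group
  have hd : dt N ρ σ ⟨_, hE⟩ = 1 := by
    have h1 : act N ρ σ ⟨_, hE⟩ = 1 := by
      ext f w
      show ρ n ((f : W →ₗ[ℝ] V) (σ n⁻¹ w)) = (f : W →ₗ[ℝ] V) w
      rw [f.2, ← Module.End.mul_apply, ← map_mul]
      have : (n : I) * ((n⁻¹ : N) : I) = 1 := by simp
      rw [this, map_one]
      rfl
    show LinearMap.det (act N ρ σ ⟨_, hE⟩) = 1
    rw [h1]
    exact map_one _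
  have h2 : e.symm (n : I) = ⟨⟨_, hE⟩, hd⟩ := by
    rw [MulEquiv.symm_apply_eq]
    rfl
  show ((s (e.symm (n : I)) : W ≃ₗ[ℝ] W) : W →ₗ[ℝ] W) = σ n
  rw [h2]
  rfl

end real

end Cfsg.Agent.H727.Orth
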