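import Cfsg.Agent.H727.Orth.SporTool
import Cfsg.Agent.H661.SporAll
import Cfsg.Agent.S2060
import Cfsg.Agent.S2063
import Cfsg.Agent.S2064
import Cfsg.Agent.S2065
import Cfsg.Agent.S2068
import Cfsg.Agent.S2069
import Cfsg.Agent.S2070
import Cfsg.Agent.S2071
import Cfsg.Agent.S2076
import Cfsg.Agent.S2077
import Cfsg.Agent.S2080
import Cfsg.Agent.S2083
import Cfsg.Agent.S2084
import Cfsg.Agent.S2085

/-!
# Sporadic groups: the rows with trivial outer automorphism group, degrees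
-/

set_option autoImplicit false
set_option linter.unusedSectionVars false
set_option linter.style.haveILetI false

namespace Cfsg.Agent.H727.Orth.SporOne

open Cfsg Cfsg.Agent.NotCT Cfsg.Agent.H661.Spor

universe u

variable {S : Type u} [Group S] [Finite S]

theorem of_out_one {T : Type*} [Group T] (e : S ≃* T) (hc : Subgroup.center S = ⊥) (h : P1 S)
    (ho : Nat.card (Cfsg.Out T) = 1) : EvenO S := by
  have hfin : Finite T := Finite.of_equiv S e.toEquiv
  have hc' : Subgroup.center T = ⊥ := by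
    rw [eq_bot_iff] at hc ⊢
    intro x hx
    have h1 : e.symm x ∈ Subgroup.center S := by
      rw [Subgroup.mem_center_iff] at hx ⊢
      intro s
      apply e.injective
      rw [map_mul, map_mul, e.apply_symm_apply]
      exact hx (e s)
    have h2 := hc h1
    rw [Subgroup.mem_bot] at h2 ⊢
    exact (EmbeddingLike.map_eq_one_iff (f := e.symm)).1 h2
  exact EvenO.congr e.symm (evenO_of_p1_card_out hc' (h.congr e) (by rw [ho]; exact odd_one))

theorem deg8_of_card [IsSimpleGroup S] (hna : ¬ ∀ a b : S, a * b = b * a) {n p : ℕ}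
    (hn : Nat.card S = n) (hp : p.Prime) (h13 : 13 ≤ p) (hdvd : p ∣ n) (hsq : ¬ p ^ 2 ∣ n)
    (hne : 2 * n ≠ p * (p ^ 2 - 1)) : Deg8 S :=
  deg8_of_prime hna hp h13 (hn ▸ hdvd) (hn ▸ hsq) (hn ▸ hne)

variable [IsSimpleGroup S]

theorem m11_evenO (h : Cfsg.Spor.IsoM11 S) (hc : Subgroup.center S = ⊥) : EvenO S := by
  have h1 := m11 h
  obtain ⟨e⟩ := h
  exact of_out_one e hc h1 Cfsg.Agent.S2060.result

theorem m23_evenO (h : Cfsg.Spor.IsoM23 S) (hc : Subgroup.center S = ⊥) : EvenO S := by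
  have h1 := m23 h
  obtain ⟨e⟩ := h
  exact of_out_one e hc h1 Cfsg.Agent.S2063.result

theorem m24_evenO (h : Cfsg.Spor.IsoM24 S) (hc : Subgroup.center S = ⊥) : EvenO S := by
  have h1 := m24 h
  obtain ⟨e⟩ := h
  exact of_out_one e hc h1 Cfsg.Agent.S2064.result

theorem j1_evenO (h : Cfsg.Spor.IsoJ1 S) (hc : Subgroup.center S = ⊥) : EvenO S := by
  have h1 := j1 h
  obtain ⟨e⟩ := h
  exact of_out_one e hc h1 Cfsg.Agent.S2065.result

theorem j4_evenO (h : Cfsg.Spor.IsoJ4 S) (hc : Subgroup.center S = ⊥) : EvenO S := by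
  have h1 := j4 h
  obtain ⟨e⟩ := h
  exact of_out_one e hc h1 Cfsg.Agent.S2068.result

theorem co1_evenO (h : Cfsg.Spor.IsoCo1 S) (hc : Subgroup.center S = ⊥) : EvenO S := by
  have h1 := co1 h
  obtain ⟨e⟩ := h
  exact of_out_one e hc h1 Cfsg.Agent.S2069.result

theorem co2_evenO (h : Cfsg.Spor.IsoCo2 S) (hc : Subgroup.center S = ⊥) : EvenO S := by
  have h1 := co2 h
  obtain ⟨e⟩ := h
  exact of_out_one e hc h1 Cfsg.Agent.S2070.result

theorem co3_evenO (h : Cfsg.Spor.IsoCo3 S) (hc : Subgroup.center S = ⊥) : EvenO S := by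
  have h1 := co3 h
  obtain ⟨e⟩ := h
  exact of_out_one e hc h1 Cfsg.Agent.S2071.result

theorem ly_evenO (h : Cfsg.Spor.IsoLy S) (hc : Subgroup.center S = ⊥) : EvenO S := by
  have h1 := ly h
  obtain ⟨e⟩ := h
  exact of_out_one e hc h1 Cfsg.Agent.S2076.result

theorem ru_evenO (h : Cfsg.Spor.IsoRu S) (hc : Subgroup.center S = ⊥) : EvenO S := by
  have h1 := ru h
  obtain ⟨e⟩ := h
  exact of_out_one e hc h1 Cfsg.Agent.S2077.result

theorem fi23_evenO (h : Cfsg.Spor.IsoFi23 S) (hc : Subgroup.center S = ⊥) : EvenO S := by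
  have h1 := fi23 h
  obtain ⟨e⟩ := h
  exact of_out_one e hc h1 Cfsg.Agent.S2080.result

theorem th_evenO (h : Cfsg.Spor.IsoTh S) (hc : Subgroup.center S = ⊥) : EvenO S := by
  have h1 := th h
  obtain ⟨e⟩ := h
  exact of_out_one e hc h1 Cfsg.Agent.S2083.result

theorem b_evenO (h : Cfsg.Spor.IsoB S) (hc : Subgroup.center S = ⊥) : EvenO S := by
  have h1 := b h
  obtain ⟨e⟩ := h
  exact of_out_one e hc h1 Cfsg.Agent.S2084.result

theorem m_evenO (h : Cfsg.Spor.IsoM S) (hc : Subgroup.center S = ⊥) : EvenO S := by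
  have h1 := m h
  obtain ⟨e⟩ := h
  exact of_out_one e hc h1 Cfsg.Agent.S2085.result

theorem m23_deg8 (h : Cfsg.Spor.IsoM23 S) (hna : ¬ ∀ a b : S, a * b = b * a) : Deg8 S :=
  deg8_of_card hna (Orders.m23 h) (p := 23) (by norm_num) (by norm_num) (by norm_num) (by norm_num)
    (by norm_num)

theorem m24_deg8 (h : Cfsg.Spor.IsoM24 S) (hna : ¬ ∀ a b : S, a * b = b * a) : Deg8 S :=
  deg8_of_card hna (Orders.m24 h) (p := 23) (by norm_num) (by norm_num) (by norm_num) (by norm_num)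
    (by norm_num)

theorem j1_deg8 (h : Cfsg.Spor.IsoJ1 S) (hna : ¬ ∀ a b : S, a * b = b * a) : Deg8 S :=
  deg8_of_card hna (Orders.j1 h) (p := 19) (by norm_num) (by norm_num) (by norm_num) (by norm_num)
    (by norm_num)

theorem j4_deg8 (h : Cfsg.Spor.IsoJ4 S) (hna : ¬ ∀ a b : S, a * b = b * a) : Deg8 S :=
  deg8_of_card hna (Orders.j4 h) (p := 43) (by norm_num) (by norm_num) (by norm_num) (by norm_num)
    (by norm_num)

theorem co1_deg8 (h : Cfsg.Spor.IsoCo1 S) (hna : ¬ ∀ a b : S, a * b = b * a) : Deg8 S :=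
  deg8_of_card hna (Orders.co1 h) (p := 23) (by norm_num) (by norm_num) (by norm_num) (by norm_num)
    (by norm_num)

theorem co2_deg8 (h : Cfsg.Spor.IsoCo2 S) (hna : ¬ ∀ a b : S, a * b = b * a) : Deg8 S :=
  deg8_of_card hna (Orders.co2 h) (p := 23) (by norm_num) (by norm_num) (by norm_num) (by norm_num)
    (by norm_num)

theorem co3_deg8 (h : Cfsg.Spor.IsoCo3 S) (hna : ¬ ∀ a b : S, a * b = b * a) : Deg8 S :=
  deg8_of_card hna (Orders.co3 h) (p := 23) (by norm_num) (by norm_num) (by norm_num) (by norm_num)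
    (by norm_num)

theorem ly_deg8 (h : Cfsg.Spor.IsoLy S) (hna : ¬ ∀ a b : S, a * b = b * a) : Deg8 S :=
  deg8_of_card hna (Orders.ly h) (p := 67) (by norm_num) (by norm_num) (by norm_num) (by norm_num)
    (by norm_num)

theorem ru_deg8 (h : Cfsg.Spor.IsoRu S) (hna : ¬ ∀ a b : S, a * b = b * a) : Deg8 S :=
  deg8_of_card hna (Orders.ru h) (p := 29) (by norm_num) (by norm_num) (by norm_num) (by norm_num)
    (by norm_num)

theorem fi23_deg8 (h : Cfsg.Spor.IsoFi23 S) (hna : ¬ ∀ a b : S, a * b = b * a) : Deg8 S :=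
  deg8_of_card hna (Orders.fi23 h) (p := 23) (by norm_num) (by norm_num) (by norm_num) (by norm_num)
    (by norm_num)

theorem th_deg8 (h : Cfsg.Spor.IsoTh S) (hna : ¬ ∀ a b : S, a * b = b * a) : Deg8 S :=
  deg8_of_card hna (Orders.th h) (p := 31) (by norm_num) (by norm_num) (by norm_num) (by norm_num)
    (by norm_num)

theorem b_deg8 (h : Cfsg.Spor.IsoB S) (hna : ¬ ∀ a b : S, a * b = b * a) : Deg8 S :=
  deg8_of_card hna (Orders.b h) (p := 47) (by norm_num) (by norm_num) (by norm_num) (by norm_num)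
    (by norm_num)

theorem m_deg8 (h : Cfsg.Spor.IsoM S) (hna : ¬ ∀ a b : S, a * b = b * a) : Deg8 S :=
  deg8_of_card hna (Orders.m h) (p := 71) (by norm_num) (by norm_num) (by norm_num) (by norm_num)
    (by norm_num)

theorem j3_deg8 (h : Cfsg.Spor.IsoJ3 S) (hna : ¬ ∀ a b : S, a * b = b * a) : Deg8 S :=
  deg8_of_card hna (Orders.j3 h) (p := 19) (by norm_num) (by norm_num) (by norm_num) (by norm_num)
    (by norm_num)

theorem suz_deg8 (h : Cfsg.Spor.IsoSuz S) (hna : ¬ ∀ a b : S, a * b = b * a) : Deg8 S :=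
  deg8_of_card hna (Orders.suz h) (p := 13) (by norm_num) (by norm_num) (by norm_num) (by norm_num)
    (by norm_num)

theorem he_deg8 (h : Cfsg.Spor.IsoHe S) (hna : ¬ ∀ a b : S, a * b = b * a) : Deg8 S :=
  deg8_of_card hna (Orders.he h) (p := 17) (by norm_num) (by norm_num) (by norm_num) (by norm_num)
    (by norm_num)

theorem on_deg8 (h : Cfsg.Spor.IsoON S) (hna : ¬ ∀ a b : S, a * b = b * a) : Deg8 S :=
  deg8_of_card hna (Orders.on h) (p := 31) (by norm_num) (by norm_num) (by norm_num) (by norm_num)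
    (by norm_num)

theorem fi22_deg8 (h : Cfsg.Spor.IsoFi22 S) (hna : ¬ ∀ a b : S, a * b = b * a) : Deg8 S :=
  deg8_of_card hna (Orders.fi22 h) (p := 13) (by norm_num) (by norm_num) (by norm_num) (by norm_num)
    (by norm_num)

theorem fi24_deg8 (h : Cfsg.Spor.IsoFi24' S) (hna : ¬ ∀ a b : S, a * b = b * a) : Deg8 S :=
  deg8_of_card hna (Orders.fi24 h) (p := 29) (by norm_num) (by norm_num) (by norm_num) (by norm_num)
    (by norm_num)

theorem hn_deg8 (h : Cfsg.Spor.IsoHN S) (hna : ¬ ∀ a b : S, a * b = b * a) : Deg8 S :=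
  deg8_of_card hna (Orders.hn h) (p := 19) (by norm_num) (by norm_num) (by norm_num) (by norm_num)
    (by norm_num)

theorem tits_deg8 (h : Cfsg.Lie.IsoTits S) (hna : ¬ ∀ a b : S, a * b = b * a) : Deg8 S :=
  deg8_of_card hna (Orders.tits h) (p := 13) (by norm_num) (by norm_num) (by norm_num) (by norm_num)
    (by norm_num)

end Cfsg.Agent.H727.Orth.SporOne
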