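import Cfsg.Agent.H727.Orth.Rows
import Cfsg.Agent.H163.Steinberg
import Cfsg.Agent.H705.Indicator

/-!
# The Steinberg character is real; characteristic two
-/

set_option autoImplicit false
set_option linter.unusedSectionVars false
set_option linter.style.haveILetI false

namespace Cfsg.Agent.H727.Orth

open Cfsg Representation
open scoped ComplexConjugate
open Cfsg.Agent.Characters.Core

universe u v

/-- An irreducible representation with a nonzero invariant form has real character. -/
theorem real_of_form {G : Type*} [Group G] [Fintype G] {V : Type*} [AddCommGroup V] [Module ℂ V]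
    [Module.Finite ℂ V] (ρ : Representation ℂ G V) (hirr : ρ.IsIrreducible)
    (F : IntertwiningMap ρ ρ.dual) (hF : F ≠ 0) (g : G) :
    conj (ρ.character g) = ρ.character g := by
  classical
  have hχ : IsIrrCharacter G ρ.character := isIrrCharacter_of_rep _ hirr
  have hχc : IsIrrCharacter G (fun g => conj (ρ.character g)) := isIrr_conj hχ
  haveI : Invertible (Nat.card G : ℂ) := invertibleOfNonzero (by
    exact_mod_cast Nat.card_pos.ne')
  have h1 : classInner ρ.character (fun g => conj (ρ.character g)) =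
      (Module.finrank ℂ (IntertwiningMap ρ ρ.dual) : ℂ) := by
    rw [← card_inv_mul_sum_char_mul_char_eq_finrank ρ ρ.dual, classInner_def]
    congr 1
    refine Fintype.sum_equiv (Equiv.inv G) _ _ (fun s => ?_)
    simp only [Equiv.inv_apply, char_dual, inv_inv, Complex.conj_conj]
  have h2 : Module.finrank ℂ (IntertwiningMap ρ ρ.dual) ≠ 0 := by
    have : Module.Finite ℂ (IntertwiningMap ρ ρ.dual) := inferInstance
    intro h0
    have h3 := Module.finrank_zero_iff.1 h0
    exact hF (Subsingleton.elim _ _)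
  by_contra hne
  have h3 : ρ.character ≠ fun g => conj (ρ.character g) := fun h => hne (congrFun h g).symm
  rw [classInner_irr_ne hχ hχc h3] at h1
  exact h2 (by exact_mod_cast h1.symm)

section

open Cfsg.Agent.Tits.Core Cfsg.Agent.Tits.Core.Bldg Cfsg.Agent.FixBN Cfsg.Agent.H163.Steinberg

open scoped Classical in
theorem real_of_sys {I : Type*} {M : CoxeterMatrix I} {W : Type*} [Group W] {cs : CoxeterSystem M W}
    {C : Type*} [Fintype C] {Δ : Bldg cs C} [Finite W] {G : Type*} [Group G] [MulAction G C]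
    [Finite G] {p : ℕ} (S : FixBN.Sys Δ G p) [Fact p.Prime] [Nonempty C]
    (ht : ∀ x y : C, ∃ g : G, g • x = y) :
    ∃ χ : G → ℂ, IsIrrCharacter G χ ∧ (∀ g, conj (χ g) = χ g) ∧ ∀ Q : Sylow p G, χ 1 = Nat.card Q := by
  haveI := Fintype.ofFinite G
  have hopp : ∀ c : C, ∃ d, Δ.Opp c d := fun c => Tits.Opp.exists_opp Δ c
  obtain ⟨c0⟩ := (inferInstance : Nonempty C)
  have hirr := isIrreducible S ht c0 (hopp c0)
  refine ⟨(rep (G := G) S.iso).character, isIrrCharacter_of_rep _ hirr, ?_, fun Q => ?_⟩
  · let F₀ : St Δ →ₗ[ℂ] St Δ →ₗ[ℂ] ℂ :=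
      LinearMap.mk₂ ℂ (fun v w => ∑ x, (v : C → ℂ) x * (w : C → ℂ) x)
        (fun v v' w => by
          rw [← Finset.sum_add_distrib]
          refine Finset.sum_congr rfl fun x _ => ?_
          show ((v : C → ℂ) x + (v' : C → ℂ) x) * _ = _
          ring)
        (fun c v w => by
          rw [smul_eq_mul, Finset.mul_sum]
          refine Finset.sum_congr rfl fun x _ => ?_
          show (c * (v : C → ℂ) x) * _ = _
          ring)
        (fun v w w' => by
          rw [← Finset.sum_add_distrib]
          refine Finset.sum_congr rfl fun x _ => ?_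
          show _ * ((w : C → ℂ) x + (w' : C → ℂ) x) = _
          ring)
        (fun c v w => by
          rw [smul_eq_mul, Finset.mul_sum]
          refine Finset.sum_congr rfl fun x _ => ?_
          show _ * (c * (w : C → ℂ) x) = _
          ring)
    have hF₀ : ∀ v w, F₀ v w = ∑ x, (v : C → ℂ) x * (w : C → ℂ) x := fun _ _ => rfl
    set ρ := rep (G := G) S.iso with hρ
    let F : IntertwiningMap ρ ρ.dual :=
      LinearMap.intertwiningMap_of_isIntertwiningMap ρ ρ.dual F₀ (by
        intro g v
        apply LinearMap.ext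
        intro w
        simp only [Representation.dual_apply, Module.Dual.transpose_apply, LinearMap.coe_comp,
          Function.comp_apply]
        rw [hF₀, hF₀]
        refine (Fintype.sum_equiv (MulAction.toPerm g) _ _ fun x => ?_).symm
        show (v : C → ℂ) x * (ρ g⁻¹ w : C → ℂ) x = (ρ g v : C → ℂ) (g • x) * (w : C → ℂ) (g • x)
        rw [hρ, rep_apply, rep_apply, inv_smul_smul, inv_inv])
    have hF : ∀ v w, F v w = ∑ x, (v : C → ℂ) x * (w : C → ℂ) x := fun _ _ => rfl
    refine real_of_form ρ hirr F ?_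
    intro h0
    -- a nonzero vector and its conjugate
    have hnt : Nontrivial (St Δ) := by
      obtain ⟨d, hd⟩ := hopp c0
      obtain ⟨f, hf⟩ := res_surjective Δ c0 (fun _ => 1)
      refine ⟨f, 0, ?_⟩
      rintro rfl
      have := congrFun hf ⟨d, hd⟩
      rw [map_zero] at this
      exact zero_ne_one this
    obtain ⟨f, hf⟩ := exists_ne (0 : St Δ)
    have hfc : (fun x => conj ((f : C → ℂ) x)) ∈ St Δ := by
      rw [mem_St]
      intro i x
      have h1 := (mem_St Δ).1 f.2 i x
      unfold psum at h1 ⊢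
      have h2 := congrArg conj h1
      rw [map_sum, map_zero] at h2
      refine Eq.trans ?_ h2
      refine Finset.sum_congr rfl fun y _ => ?_
      split_ifs
      · rfl
      · rw [map_zero]
    have h1 : F f ⟨_, hfc⟩ = 0 := by rw [h0]; rfl
    rw [hF] at h1
    have h2 : ∑ x, ‖(f : C → ℂ) x‖ ^ 2 = 0 := by
      have h3 : ((∑ x, ‖(f : C → ℂ) x‖ ^ 2 : ℝ) : ℂ) = 0 := by
        rw [← h1]
        push_cast
        refine Finset.sum_congr rfl fun x _ => ?_
        exact (Complex.mul_conj' _).symm
      exact_mod_cast h3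
    apply hf
    apply Subtype.ext
    funext x
    have h3 := (Finset.sum_eq_zero_iff_of_nonneg (fun x _ => by positivity)).1 h2 x (Finset.mem_univ x)
    have h4 : ‖(f : C → ℂ) x‖ = 0 := by
      exact pow_eq_zero_iff (two_ne_zero) |>.1 h3
    exact norm_eq_zero.1 h4
  · -- `Q` is the group `U c` of a chamber
    obtain ⟨c, hc⟩ := S.exists_fix Q Q.isPGroup'
    have hQ : (Q : Subgroup G) = S.U c :=
      (Q.is_maximal' (S.isP c) (S.max c Q Q.isPGroup' hc)).symm
    rw [character_apply S c (hopp c) 1 (one_mem _), if_pos rfl, ← hQ]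

/-- **The Steinberg character is real.** -/
theorem real_of_hasSplit {K : Type*} [Group K] [Finite K] {p : ℕ} [Fact p.Prime]
    (h : FixBN.HasSplit p K) :
    ∃ χ : K → ℂ, IsIrrCharacter K χ ∧ (∀ g, conj (χ g) = χ g) ∧
      ∀ Q : Sylow p K, χ 1 = Nat.card Q := by
  obtain ⟨P, U, -, hU⟩ := h
  have hN : ((P.B ⊓ P.N).subgroupOf P.N).Normal := Tits.OfBN.normal_subgroupOf P
  obtain ⟨M, cs, hcs⟩ := S0320.result P
  have S := FixBN.OfBN.sys (Equiv.refl P.S) cs hcs hU
  have : Fintype (K ⧸ P.B) := Fintype.ofFinite _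
  exact real_of_sys S fun x y => MulAction.exists_smul_eq K x y

end

/-- **Characteristic two.** -/
theorem orthRow_of_hasSplit {S : Type u} [Group S] [Finite S] (hc : Subgroup.center S = ⊥)
    (h : FixBN.HasSplit 2 S) (h4 : 4 ∣ Nat.card S) (h8 : Nat.card S ≠ 60 → 8 ∣ Nat.card S) :
    OrthRow S := by
  haveI : Fact (Nat.Prime 2) := ⟨Nat.prime_two⟩
  obtain ⟨χ, h1, h2, h3⟩ := real_of_hasSplit h
  let Q : Sylow 2 S := default
  have h5 : charDegree χ = Nat.card Q := by
    have := h3 Q
    rw [Cfsg.Agent.Blocks.Basic.irr_one_eq_charDegree h1] at this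
    exact_mod_cast this
  have h6 : Nat.card Q = 2 ^ (Nat.card S).factorization 2 := Q.card_eq_multiplicity
  have hpos : Nat.card S ≠ 0 := Nat.card_pos.ne'
  have h7 : ∀ n : ℕ, 2 ^ n ∣ Nat.card S → 2 ^ n ∣ charDegree χ := by
    intro n hn
    rw [h5, h6]
    exact pow_dvd_pow 2 ((Nat.Prime.pow_dvd_iff_le_factorization Nat.prime_two hpos).1 hn)
  have h8' : 0 < charDegree χ := by
    rw [h5]
    exact Nat.card_pos
  have h9 : 4 ∣ charDegree χ := h7 2 h4
  refine ⟨χ, h1, ?_, Nat.le_of_dvd h8' h9, fun h => Nat.le_of_dvd h8' (h7 3 (h8 h)),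
    oext_of_defect_zero hc h1 h2 ?_⟩
  · exact even_iff_two_dvd.2 (dvd_trans (by norm_num) h9)
  · rw [h5, h6]

end Cfsg.Agent.H727.Orth
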