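import Cfsg.Agent.H933.TitsBN
import Cfsg.Agent.H727.Orth.Pairs
import Cfsg.Agent.H727.Orth.SporOne

/-!
# The Tits group

`dData_of_sylow` : a criterion for `DData` with the Sylow `2`-subgroups of a group.
`tits_evenO` : the Tits group has an even-degree irreducible character of indicator one extending with
indicator one to its stabilizer.
-/

set_option autoImplicit false
set_option linter.unusedSectionVars false
set_option linter.style.haveILetI false

namespace Cfsg.Agent.H727.Orth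

open Cfsg.Agent.H694 (pairRel map_conj_one map_conj_conj DData)

universe u

variable {T : Type u} [Group T] [Finite T]

/-- the `2`-subgroups of order `2 ^ n` of `K` are its Sylow subgroups -/
noncomputable def sylEquiv {n m : ℕ} (hm : Odd m) (K : Subgroup T) (hK : Nat.card K = 2 ^ n * m) :
    {P : Subgroup T // Nat.card P = 2 ^ n ∧ P ≤ K} ≃ Sylow 2 K :=
  haveI : Fact (Nat.Prime 2) := ⟨Nat.prime_two⟩
  have hf : (Nat.card K).factorization 2 = n := by
    have hm0 : m ≠ 0 := by rintro rfl; exact absurd hm (by decide)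
    rw [hK, Nat.factorization_mul (by positivity) hm0, Finsupp.add_apply, Nat.Prime.factorization_pow Nat.prime_two,
      Finsupp.single_eq_same, Nat.factorization_eq_zero_of_not_dvd (Nat.two_dvd_ne_zero.2 (Nat.odd_iff.1 hm)),
      add_zero]
  { toFun := fun P => Sylow.ofCard (P.1.subgroupOf K) (by
      rw [Nat.card_congr (Subgroup.subgroupOfEquivOfLe P.2.2).toEquiv, P.2.1, hf])
    invFun := fun Q => ⟨(Q : Subgroup K).map K.subtype, by
      rw [← Nat.card_congr ((Q : Subgroup K).equivMapOfInjective K.subtype K.subtype_injective).toEquiv,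
        Q.card_eq_multiplicity, hf], Subgroup.map_subtype_le _⟩
    left_inv := fun P => Subtype.ext (by
      show (P.1.subgroupOf K).map K.subtype = P.1
      rw [Subgroup.subgroupOf_map_subtype, inf_eq_left.2 P.2.2])
    right_inv := fun Q => Sylow.ext (by
      show ((Q : Subgroup K).map K.subtype).subgroupOf K = Q
      rw [Subgroup.subgroupOf, Subgroup.comap_map_eq_self_of_injective K.subtype_injective]) }

theorem mem_of_conj_eq {S₀ : Subgroup T} (h : Subgroup.normalizer (S₀ : Set T) = S₀) {g : T}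
    (hg : S₀.map (MulAut.conj g).toMonoidHom = S₀) : g ∈ S₀ := by
  rw [← h, Subgroup.mem_normalizer_iff]
  intro x
  constructor
  · intro hx
    rw [← hg]
    exact ⟨x, hx, rfl⟩
  · intro hx
    rw [← hg] at hx
    obtain ⟨y, hy, e⟩ := hx
    have e' : g * y * g⁻¹ = g * x * g⁻¹ := e
    have : y = x := by simpa using e'
    rwa [← this]

theorem exists_conj_eq {n m : ℕ} (hm : Odd m) (hT : Nat.card T = 2 ^ n * m) {S₀ P : Subgroup T}
    (h0 : Nat.card S₀ = 2 ^ n) (hP : Nat.card P = 2 ^ n) :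
    ∃ g : T, S₀.map (MulAut.conj g).toMonoidHom = P := by
  haveI : Fact (Nat.Prime 2) := ⟨Nat.prime_two⟩
  have hf : (Nat.card T).factorization 2 = n := by
    have hm0 : m ≠ 0 := by rintro rfl; exact absurd hm (by decide)
    rw [hT, Nat.factorization_mul (by positivity) hm0, Finsupp.add_apply,
      Nat.Prime.factorization_pow Nat.prime_two, Finsupp.single_eq_same,
      Nat.factorization_eq_zero_of_not_dvd (Nat.two_dvd_ne_zero.2 (Nat.odd_iff.1 hm)), add_zero]
  let A : Sylow 2 T := Sylow.ofCard S₀ (by rw [h0, hf])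
  let B : Sylow 2 T := Sylow.ofCard P (by rw [hP, hf])
  obtain ⟨g, hg⟩ := MulAction.exists_smul_eq T A B
  refine ⟨g, ?_⟩
  have h3 : ((g • A : Sylow 2 T) : Subgroup T) = B := by rw [hg]
  exact h3

/-- **The criterion.** -/
theorem dData_of_sylow {n m : ℕ} (hm : Odd m) (hT : Nat.card T = 2 ^ n * m) (S₀ M₁ : Subgroup T)
    (h0 : Nat.card S₀ = 2 ^ n) (h1 : Nat.card M₁ = 2 ^ n * 3) (hle : S₀ ≤ M₁)
    (hu : ∀ K : Subgroup T, Nat.card K = 2 ^ n * 3 → S₀ ≤ K → K = M₁)
    (hN : Subgroup.normalizer (S₀ : Set T) = S₀)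
    (hQ : ∀ x : Subgroup T, Nat.card x = 2 ^ n → ∃ t ∈ x, t ∈ M₁ ∧ ∃ P : Subgroup T, Nat.card P = 2 ^ n ∧
      P ≤ M₁ ∧ t ∉ P) : DData T := by
  classical
  haveI : Fact (Nat.Prime 2) := ⟨Nat.prime_two⟩
  have hcm : ∀ (g : T) (H : Subgroup T), Nat.card (H.map (MulAut.conj g).toMonoidHom) = Nat.card H :=
    fun g H => (Nat.card_congr (H.equivMapOfInjective _ (MulAut.conj g).injective).toEquiv).symm
  have hinv : ∀ (g : T) (H K : Subgroup T), H.map (MulAut.conj g).toMonoidHom = K →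
      K.map (MulAut.conj g⁻¹).toMonoidHom = H := fun g H K h => map_conj_inv_eq h
  -- conjugacy
  have e : {P : Subgroup T // Nat.card P = 2 ^ n ∧ P ≤ ⊤} ≃ Sylow 2 (⊤ : Subgroup T) :=
    sylEquiv hm ⊤ (by rw [Subgroup.card_top, hT])
  have hconj : ∀ P : Subgroup T, Nat.card P = 2 ^ n → ∃ g : T, S₀.map (MulAut.conj g).toMonoidHom = P :=
    fun P hP => exists_conj_eq hm hT h0 hP
  have hNP : ∀ P : Subgroup T, Nat.card P = 2 ^ n → ∀ g : T, P.map (MulAut.conj g).toMonoidHom = P → g ∈ P := by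
    intro P hP g hg
    obtain ⟨k, rfl⟩ := hconj P hP
    have h3 : S₀.map (MulAut.conj (k⁻¹ * g * k)).toMonoidHom = S₀ := by
      rw [← map_conj_conj, ← map_conj_conj, hg]
      exact hinv _ _ _ rfl
    have h4 := mem_of_conj_eq hN h3
    refine ⟨_, h4, ?_⟩
    show k * (k⁻¹ * g * k) * k⁻¹ = g
    group
  have hUK : ∀ P : Subgroup T, Nat.card P = 2 ^ n → ∃ K : Subgroup T, (Nat.card K = 2 ^ n * 3 ∧ P ≤ K) ∧
      ∀ K' : Subgroup T, Nat.card K' = 2 ^ n * 3 → P ≤ K' → K' = K := by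
    intro P hP
    obtain ⟨k, rfl⟩ := hconj P hP
    refine ⟨M₁.map (MulAut.conj k).toMonoidHom, ⟨by rw [hcm, h1], Subgroup.map_mono hle⟩, ?_⟩
    intro K' hK' hle'
    have h3 : K'.map (MulAut.conj k⁻¹).toMonoidHom = M₁ := by
      apply hu _ (by rw [hcm, hK'])
      rw [← hinv k S₀ _ rfl]
      exact Subgroup.map_mono hle'
    have h4 := hinv _ _ _ h3
    rw [inv_inv] at h4
    exact h4.symm
  have hKc : ∀ K : Subgroup T, Nat.card K = 2 ^ n * 3 → ∃ g : T, M₁.map (MulAut.conj g).toMonoidHom = K := by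
    intro K hK
    obtain ⟨P, hP⟩ := (sylEquiv (m := 3) (by decide) K hK).symm (default : Sylow 2 K)
    obtain ⟨g, hg⟩ := hconj P hP.1
    refine ⟨g, ?_⟩
    obtain ⟨K₁, -, h4⟩ := hUK P hP.1
    rw [h4 K hK hP.2]
    refine h4 _ (by rw [hcm, h1]) ?_
    rw [← hg]
    exact Subgroup.map_mono hle
  -- the function
  let f : Subgroup T → Subgroup T := fun P => if h : Nat.card P = 2 ^ n then (hUK P h).choose else ⊥
  have hfs : ∀ P : Subgroup T, Nat.card P = 2 ^ n → Nat.card (f P) = 2 ^ n * 3 ∧ P ≤ f P := by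
    intro P hP
    have : f P = (hUK P hP).choose := dif_pos hP
    rw [this]
    exact (hUK P hP).choose_spec.1
  have hfu : ∀ P K : Subgroup T, Nat.card P = 2 ^ n → Nat.card K = 2 ^ n * 3 → P ≤ K → f P = K := by
    intro P K hP hK hPK
    have : f P = (hUK P hP).choose := dif_pos hP
    rw [this]
    exact ((hUK P hP).choose_spec.2 K hK hPK).symm
  set 𝒳 : Set (Subgroup T) := {P | Nat.card P = 2 ^ n} with h𝒳
  set 𝒴 : Set (Subgroup T) := {K | Nat.card K = 2 ^ n * 3} with h𝒴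
  have hev : Even (Nat.card (Quotient (pairRel 𝒳 𝒳))) := by
    refine even_pairs 𝒳 𝒴 f ?_ ?_ ?_ ?_ ?_ ?_
    · intro g H hH
      show Nat.card _ = 2 ^ n
      rw [hcm]
      exact hH
    · intro P hP
      exact (hfs P hP).1
    · intro g P hP
      refine hfu _ _ (by rw [hcm]; exact hP) (by rw [hcm]; exact (hfs P hP).1) ?_
      exact Subgroup.map_mono (hfs P hP).2
    · intro K hK
      have hK' : Nat.card K = 2 ^ n * 3 := hK
      have e1 : {P : Subgroup T // P ∈ 𝒳 ∧ f P = K} ≃ {P : Subgroup T // Nat.card P = 2 ^ n ∧ P ≤ K} := by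
        refine Equiv.subtypeEquivRight fun P => ?_
        constructor
        · rintro ⟨h3, rfl⟩
          exact ⟨h3, (hfs P h3).2⟩
        · rintro ⟨h3, h4⟩
          exact ⟨h3, hfu P K h3 hK h4⟩
      rw [Nat.card_congr e1, Nat.card_congr (sylEquiv (m := 3) (by decide) K hK')]
      have P : Sylow 2 K := default
      obtain ⟨hP1, hP2⟩ := ((sylEquiv (m := 3) (by decide) K hK').symm P).2
      have hP3 : ((sylEquiv (m := 3) (by decide) K hK').symm P).1 = (P : Subgroup K).map K.subtype := rfl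
      rw [hP3] at hP1 hP2
      have h5 : Subgroup.normalizer ((P : Subgroup K) : Set K) = P := by
        refine le_antisymm ?_ Subgroup.le_normalizer
        intro g hg
        have h6 : ((P : Subgroup K).map K.subtype).map (MulAut.conj (g : T)).toMonoidHom =
            (P : Subgroup K).map K.subtype := by
          ext x
          constructor
          · rintro ⟨_, ⟨y, hy, rfl⟩, rfl⟩
            exact ⟨g * y * g⁻¹, (Subgroup.mem_normalizer_iff.1 hg y).1 hy, rfl⟩
          · rintro ⟨y, hy, rfl⟩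
            refine ⟨((g⁻¹ * y * g : K) : T), ⟨(g⁻¹ * y * g : K), ?_, rfl⟩, ?_⟩
            · have := (Subgroup.mem_normalizer_iff.1 (inv_mem hg) y).1 hy
              rwa [inv_inv] at this
            · show (g : T) * ((g : T)⁻¹ * y * g) * (g : T)⁻¹ = y
              group
        obtain ⟨z, hz, hzg⟩ := hNP _ hP1 _ h6
        have : z = g := Subtype.ext hzg
        rwa [← this]
      rw [Sylow.card_eq_index_normalizer P]
      show (Subgroup.normalizer ((P : Subgroup K) : Set K)).index = 3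
      rw [h5]
      have h6 := Subgroup.card_mul_index (P : Subgroup K)
      rw [← Nat.card_congr ((P : Subgroup K).equivMapOfInjective K.subtype K.subtype_injective).toEquiv] at hP1
      rw [hP1, hK'] at h6
      exact Nat.eq_of_mul_eq_mul_left (by positivity) h6
    · intro x hx
      have hx' : IsPGroup 2 x := IsPGroup.of_card (n := n) hx
      exact hx'.to_le fun g hg => hNP x hx g hg
    · intro x hx K hK
      obtain ⟨g, rfl⟩ := hKc K hK
      obtain ⟨t, ht, htM, P, hP, hPM, htP⟩ := hQ (x.map (MulAut.conj g⁻¹).toMonoidHom) (by rw [hcm]; exact hx)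
      obtain ⟨s, hs, rfl⟩ := ht
      have hst : ∀ (H : Subgroup T) (s : T), s ∈ H → s ∈ nrm H := by
        intro H s hs
        rw [mem_nrm]
        ext y
        constructor
        · rintro ⟨z, hz, rfl⟩
          exact mul_mem (mul_mem hs hz) (inv_mem hs)
        · intro hy
          refine ⟨s⁻¹ * y * s, mul_mem (mul_mem (inv_mem hs) hy) hs, ?_⟩
          show s * (s⁻¹ * y * s) * s⁻¹ = y
          group
      have hs1 : s = g * (g⁻¹ * s * g⁻¹⁻¹) * g⁻¹ := by group
      refine ⟨s, hst _ _ hs, hst _ _ ?_, P.map (MulAut.conj g).toMonoidHom, ?_, ?_, ?_⟩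
      · refine ⟨_, htM, ?_⟩
        exact hs1.symm
      · show Nat.card _ = 2 ^ n
        rw [hcm]
        exact hP
      · exact hfu _ _ (by rw [hcm]; exact hP) hK (Subgroup.map_mono hPM)
      · intro h3
        obtain ⟨y, hy, hys⟩ := hNP _ (by rw [hcm]; exact hP) _ h3
        apply htP
        have h4 : g * y * g⁻¹ = s := hys
        have h5 : y = g⁻¹ * s * g⁻¹⁻¹ := by rw [← h4]; group
        show g⁻¹ * s * g⁻¹⁻¹ ∈ P
        rw [← h5]
        exact hy
  refine ⟨𝒳, fun α H hH => ?_, ?_⟩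
  · show Nat.card _ = 2 ^ n
    rw [← Nat.card_congr (H.equivMapOfInjective _ α.injective).toEquiv]
    exact hH
  · refine Odd.add_even ?_ hev
    have e1 : 𝒳 ≃ {P : Subgroup T // Nat.card P = 2 ^ n ∧ P ≤ ⊤} :=
      Equiv.subtypeEquivRight fun P => ⟨fun h => ⟨h, le_top⟩, fun h => h.1⟩
    rw [Nat.card_congr (e1.trans e)]
    have := card_sylow_modEq_one 2 (⊤ : Subgroup T)
    exact Nat.odd_iff.2 this

section tits

open Cfsg.Agent.KFacts.TwF4 Cfsg.Agent.KFacts.TwF4.Full Cfsg.Agent.KFacts.TwF4.Arc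
open Cfsg.Agent.KFacts.TwF4.Inv Cfsg.Agent.KFacts.TwF4.SylU
open Cfsg.Agent.SplitTwo Cfsg.Agent.SplitTwo.ZS Cfsg.Agent.TitsThree.RankTwoZ
open Cfsg.Agent.SplitTwo.RootSysZ Subgroup Cfsg Cfsg.Lie Cfsg.Agent.H248.Ovg Cfsg.Agent.H248.TwF4Over
open Cfsg.Agent.H933.TitsBN (bruhat' card_N28 card_N17 card_half eq_one_of_maps dih_maps eq_of_maps)

variable {F : Type*} [Field F] [Finite F] {σ : F →+* F} {G : Type u} [Group G] [Finite G] (S : Full σ G)

theorem dData_full {N : Subgroup G} (h01 : ∀ x : F, x = 0 ∨ x = 1) (T : Two F N)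
    (_hR : S.R.p = 2) (hidx : N.index = 2) {m : ℕ} (hm : Odd m) (hcard : Nat.card N = 2 ^ 11 * m) : DData ↥N := by
  classical
  have hfact : Fact (Nat.Prime 2) := ⟨Nat.prime_two⟩
  haveI hNn : N.Normal := normal_of_index_eq_two hidx
  have hcU : Nat.card (J S.XZ 1 8) = 2 ^ 12 := two_card_U S T
  have hUN : ¬ J S.XZ 1 8 ≤ N := fun h =>
    two_e1_not_mem S T 4 (h (mem_J ((mem_X8 S).2 ⟨1, 0, rfl⟩) (by norm_num) (by norm_num)))
  have h0 : Nat.card ((J S.XZ 1 8).subgroupOf N) = 2 ^ 11 := by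
    have h1 := card_half (N := N) (H := J S.XZ 1 8) hidx hUN
    rw [hcU] at h1
    omega
  have h28 : Nat.card ((normalizer (J S.XZ 2 8 : Set G)).subgroupOf N) = 2 ^ 11 * 3 := by
    have h1 := card_half (N := N) (H := normalizer (J S.XZ 2 8 : Set G)) hidx
      (fun h => hUN (H187.TwF4Par.U_le_norm1.trans h))
    rw [card_N28 S h01, hcU] at h1
    omega
  have h17 : Nat.card ((normalizer (J S.XZ 1 7 : Set G)).subgroupOf N) = 2 ^ 11 * 5 := by
    have h1 := card_half (N := N) (H := normalizer (J S.XZ 1 7 : Set G)) hidx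
      (fun h => hUN (H187.TwF4Par.U_le_norm2.trans h))
    rw [card_N17 S h01, hcU] at h1
    omega
  have hn1 : S.n1 ∈ normalizer (J S.XZ 2 8 : Set G) :=
    mem_normalizer_J (cond_top S) fun x hx => S.n1_refl.mem_J hx (by norm_num) (by norm_num)
  have ho1 : S.o 0 1 ∈ S.XZ 1 := (mem_X1 S).2 ⟨1, rfl⟩
  have he8 : S.e 4 0 1 ∈ S.XZ 8 := (mem_X8 S).2 ⟨0, 1, rfl⟩
  have ho1N : S.o 0 1 ∈ N := two_o_mem S T 0 1
  have he8N : S.e 4 0 1 ∈ N := two_e0_mem S T 4 1
  have ho1U : S.o 0 1 ∈ J S.XZ 1 8 := X_le_J (by norm_num) (by norm_num) ho1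
  have he8U : S.e 4 0 1 ∈ J S.XZ 1 8 := X_le_J (by norm_num) (by norm_num) he8
  have ho9 : S.n1 * S.o 0 1 * S.n1⁻¹ ∈ S.XZ 9 := S.n1_refl.mem' ho1 (by norm_num)
  have ho9' : S.n1⁻¹ * S.o 0 1 * S.n1 ∈ S.XZ 9 := S.n1_refl.mem_inv ho1 (by norm_num)
  have hone : S.o 0 1 ≠ 1 := fun h => one_ne_zero (S.o_eq_one h)
  refine dData_of_sylow hm hcard _ _ h0 h28 (fun x hx => H187.TwF4Par.U_le_norm1 hx) ?_ ?_ ?_
  · intro K hK hle
    have hM : J S.XZ 1 8 ⊓ N ≤ K.map N.subtype := by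
      intro x hx
      exact ⟨⟨x, hx.2⟩, hle hx.1, rfl⟩
    rcases overgroup (two_cond S T) hM with h | h | h
    · exfalso
      have h1 : K = ⊤ := by
        rw [eq_top_iff]
        intro x _
        obtain ⟨y, hy, e⟩ := h x.2
        have : y = x := Subtype.ext e
        rwa [← this]
      rw [h1, Subgroup.card_top] at hK
      have h2 := Subgroup.card_subgroup_dvd_card ((normalizer (J S.XZ 1 7 : Set G)).subgroupOf N)
      rw [hK, h17] at h2
      have h3 := Nat.dvd_of_mul_dvd_mul_left (by positivity) h2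
      norm_num at h3
    · refine Subgroup.eq_of_le_of_card_ge (fun x hx => h (mem_map_of_mem _ hx)) ?_
      rw [hK, h28]
    · exfalso
      have h2 : K ≤ (normalizer (J S.XZ 1 7 : Set G)).subgroupOf N := fun x hx => h (mem_map_of_mem _ hx)
      have h3 := Subgroup.card_dvd_of_le h2
      rw [hK, h17] at h3
      have h4 := Nat.dvd_of_mul_dvd_mul_left (by positivity) h3
      norm_num at h4
  · -- self-normalizing
    refine le_antisymm ?_ Subgroup.le_normalizer
    intro g hg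
    set H := normalizer ((J S.XZ 1 8).subgroupOf N : Set ↥N) with hH
    have hM : J S.XZ 1 8 ⊓ N ≤ H.map N.subtype := by
      intro x hx
      exact ⟨⟨x, hx.2⟩, Subgroup.le_normalizer hx.1, rfl⟩
    have hA : S.n1 ∉ H.map N.subtype := by
      rintro ⟨y, hy, e⟩
      have h1 := (mem_normalizer_iff.1 hy ⟨S.o 0 1, ho1N⟩).1 ho1U
      have h2 : (y : G) * S.o 0 1 * (y : G)⁻¹ ∈ J S.XZ 1 8 := h1
      have e' : (y : G) = S.n1 := e
      rw [e'] at h2
      have h3 := H127.TwFInv.X9_inf_U S ho9 h2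
      apply hone
      have e3 : S.o 0 1 = S.n1⁻¹ * (S.n1 * S.o 0 1 * S.n1⁻¹) * S.n1 := by group
      rw [e3, h3]
      group
    have hB : S.n2 ∉ H.map N.subtype := by
      rintro ⟨y, hy, e⟩
      have h1 := (mem_normalizer_iff.1 hy ⟨S.e 4 0 1, he8N⟩).1 he8U
      have h2 : (y : G) * S.e 4 0 1 * (y : G)⁻¹ ∈ J S.XZ 1 8 := h1
      have e' : (y : G) = S.n2 := e
      rw [e'] at h2
      have h3 := H127.TwFInv.X0_inf_BT S (S.n2_refl.mem' he8 (by norm_num)) (mem_sup_left h2)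
      have e3 : S.e 4 0 1 = S.n2⁻¹ * (S.n2 * S.e 4 0 1 * S.n2⁻¹) * S.n2 := by group
      have h4 : S.e 4 0 1 = 1 := by
        rw [e3, h3]
        group
      exact one_ne_zero (S.e_eq_one h4).2
    obtain ⟨b, hb, w, hw, b', hb', e⟩ := bruhat' S h01 (g : G)
    have hg' : b * w * b' ∈ H.map N.subtype := by
      rw [← e]
      exact mem_map_of_mem _ hg
    rcases types (two_cond S T) hM hb hb' (dih_maps S hw) hg' with h | h | ⟨-, h⟩ | ⟨-, h⟩
    · exact absurd (h ((two_cond S T).n1_mem N inf_le_right inf_le_right)) hA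
    · show (g : G) ∈ J S.XZ 1 8
      rw [e, eq_one_of_maps S h01 h, mul_one]
      exact mul_mem hb hb'
    · exact absurd (n1_mem (two_cond S T) hM h) hA
    · exact absurd (n2_mem (two_cond S T) hM h) hB
  · intro x hx
    obtain ⟨g, rfl⟩ := exists_conj_eq hm hcard h0 hx
    obtain ⟨b, hb, w, hw, b', hb', e⟩ := bruhat' S h01 (g : G)
    -- a root group of type one or nine
    have key : ∃ t₀ n : G, t₀ ∈ N ∧ t₀ ∈ normalizer (J S.XZ 2 8 : Set G) ∧ w⁻¹ * t₀ * w ∈ J S.XZ 1 8 ∧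
        n ∈ normalizer (J S.XZ 2 8 : Set G) ∧ n⁻¹ * t₀ * n ∉ J S.XZ 1 8 := by
      have h1N : S.n1 * S.o 0 1 * S.n1⁻¹ ∈ N := hNn.conj_mem _ ho1N _
      have h1M : S.o 0 1 ∈ normalizer (J S.XZ 2 8 : Set G) := H187.TwF4Par.U_le_norm1 ho1U
      have h9M : S.n1 * S.o 0 1 * S.n1⁻¹ ∈ normalizer (J S.XZ 2 8 : Set G) :=
        mul_mem (mul_mem hn1 h1M) (inv_mem hn1)
      have hk : ∀ (k : ℕ) (f : ZMod (2 * 8) → ZMod (2 * 8)) (t : G), 1 ≤ k → k ≤ 8 → Maps S.R.X w f →
          t ∈ S.R.X (f k) → w⁻¹ * t * w ∈ J S.XZ 1 8 := by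
        intro k f t h1 h2 hf ht
        have h3 : w⁻¹ * t * w ∈ S.R.X (k : ZMod (2 * 8)) := by
          rw [← hf]
          have e : w * (w⁻¹ * t * w) * w⁻¹ = t := by group
          rw [e]
          exact ht
        refine X_le_J (X := S.XZ) (k := (k : ℤ)) (by omega) (by omega) ?_
        rw [xz_eq, Int.cast_natCast]
        exact h3
      have hcase : (∃ (k : ℕ) (f : ZMod (2 * 8) → ZMod (2 * 8)), 1 ≤ k ∧ k ≤ 8 ∧ Maps S.R.X w f ∧ f k = 1) ∨
          (∃ (k : ℕ) (f : ZMod (2 * 8) → ZMod (2 * 8)), 1 ≤ k ∧ k ≤ 8 ∧ Maps S.R.X w f ∧ f k = 9) := by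
        have hc1 : ∀ c : ZMod (2 * 8), (∃ k ∈ Finset.Icc 1 8, c + ((k : ℕ) : ZMod (2 * 8)) = 1) ∨
            (∃ k ∈ Finset.Icc 1 8, c + ((k : ℕ) : ZMod (2 * 8)) = 9) := by decide
        have hc2 : ∀ c : ZMod (2 * 8), (∃ k ∈ Finset.Icc 1 8, c - ((k : ℕ) : ZMod (2 * 8)) = 1) ∨
            (∃ k ∈ Finset.Icc 1 8, c - ((k : ℕ) : ZMod (2 * 8)) = 9) := by decide
        obtain ⟨c, hc | hc⟩ := dih_maps S hw
        · rcases hc1 c with ⟨k, h1, h2⟩ | ⟨k, h1, h2⟩
          · exact Or.inl ⟨k, _, (Finset.mem_Icc.1 h1).1, (Finset.mem_Icc.1 h1).2, hc, h2⟩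
          · exact Or.inr ⟨k, _, (Finset.mem_Icc.1 h1).1, (Finset.mem_Icc.1 h1).2, hc, h2⟩
        · rcases hc2 c with ⟨k, h1, h2⟩ | ⟨k, h1, h2⟩
          · exact Or.inl ⟨k, _, (Finset.mem_Icc.1 h1).1, (Finset.mem_Icc.1 h1).2, hc, h2⟩
          · exact Or.inr ⟨k, _, (Finset.mem_Icc.1 h1).1, (Finset.mem_Icc.1 h1).2, hc, h2⟩
      rcases hcase with ⟨k, f, h1, h2, hf, hfk⟩ | ⟨k, f, h1, h2, hf, hfk⟩
      · refine ⟨S.o 0 1, S.n1, ho1N, h1M, hk k f _ h1 h2 hf ?_, hn1, ?_⟩
        · rw [hfk]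
          have := ho1
          rw [xz_eq] at this
          exact_mod_cast this
        · intro h3
          have h4 := H127.TwFInv.X9_inf_U S ho9' h3
          apply hone
          have e3 : S.o 0 1 = S.n1 * (S.n1⁻¹ * S.o 0 1 * S.n1) * S.n1⁻¹ := by group
          rw [e3, h4]
          group
      · refine ⟨S.n1 * S.o 0 1 * S.n1⁻¹, 1, h1N, h9M, hk k f _ h1 h2 hf ?_, one_mem _, ?_⟩
        · rw [hfk]
          have := ho9
          rw [xz_eq] at this
          exact_mod_cast this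
        · intro h3
          rw [inv_one, one_mul, mul_one] at h3
          have h4 := H127.TwFInv.X9_inf_U S ho9 h3
          apply hone
          have e3 : S.o 0 1 = S.n1⁻¹ * (S.n1 * S.o 0 1 * S.n1⁻¹) * S.n1 := by group
          rw [e3, h4]
          group
    obtain ⟨t₀, n, ht0, htM, htU, hn, htn⟩ := key
    have hbM : b ∈ normalizer (J S.XZ 2 8 : Set G) := H187.TwF4Par.U_le_norm1 hb
    have htN : b * t₀ * b⁻¹ ∈ N := hNn.conj_mem _ ht0 _
    refine ⟨⟨b * t₀ * b⁻¹, htN⟩, ?_, ?_, ((J S.XZ 1 8).map (MulAut.conj (b * n)).toMonoidHom).subgroupOf N,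
      ?_, ?_, ?_⟩
    · refine ⟨⟨b'⁻¹ * (w⁻¹ * t₀ * w) * b', ?_⟩, ?_, ?_⟩
      · have h1 := hNn.conj_mem _ ht0 (b'⁻¹ * w⁻¹)
        have e1 : b'⁻¹ * w⁻¹ * t₀ * (b'⁻¹ * w⁻¹)⁻¹ = b'⁻¹ * (w⁻¹ * t₀ * w) * b' := by group
        rwa [e1] at h1
      · exact mul_mem (mul_mem (inv_mem hb') htU) hb'
      · apply Subtype.ext
        show (g : G) * (b'⁻¹ * (w⁻¹ * t₀ * w) * b') * (g : G)⁻¹ = b * t₀ * b⁻¹
        rw [e]
        group
    · exact mul_mem (mul_mem hbM htM) (inv_mem hbM)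
    · have h1 : Nat.card ((J S.XZ 1 8).map (MulAut.conj (b * n)).toMonoidHom) = 2 ^ 12 := by
        rw [← Nat.card_congr ((J S.XZ 1 8).equivMapOfInjective _ (MulAut.conj (b * n)).injective).toEquiv, hcU]
      have h2 : ¬ (J S.XZ 1 8).map (MulAut.conj (b * n)).toMonoidHom ≤ N := by
        intro h
        apply hUN
        intro y hy
        have h3 := h (mem_map_of_mem _ hy)
        have h4 := hNn.conj_mem _ h3 (b * n)⁻¹
        have e1 : (b * n)⁻¹ * ((MulAut.conj (b * n)).toMonoidHom y) * (b * n)⁻¹⁻¹ = y := by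
          show (b * n)⁻¹ * (b * n * y * (b * n)⁻¹) * (b * n)⁻¹⁻¹ = y
          group
        rwa [e1] at h4
      have h3 := card_half (N := N) hidx h2
      rw [h1] at h3
      omega
    · rintro y ⟨z, hz, hzy⟩
      show (y : G) ∈ normalizer (J S.XZ 2 8 : Set G)
      have h1 : b * n * z * (b * n)⁻¹ = (y : G) := hzy
      rw [← h1]
      exact mul_mem (mul_mem (mul_mem hbM hn) (H187.TwF4Par.U_le_norm1 hz)) (inv_mem (mul_mem hbM hn))
    · rintro ⟨z, hz, hzy⟩
      apply htn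
      have h1 : b * n * z * (b * n)⁻¹ = b * t₀ * b⁻¹ := hzy
      have h2 : n⁻¹ * t₀ * n = z := by
        have : z = (b * n)⁻¹ * (b * n * z * (b * n)⁻¹) * (b * n) := by group
        rw [this, h1]
        group
      rw [h2]
      exact hz

/-- **the Tits group** -/
theorem tits_dData : DData TitsGroup := by
  obtain ⟨hidx, hs, hna, hcard⟩ := Cfsg.Agent.S1074.result
  have hK : Fintype.card (ZMod 2) = 2 ^ (2 * 0 + 1) := by rw [ZMod.card]; rfl
  obtain ⟨φ, hφ⟩ := Cfsg.Agent.ChevalleyStructure.TwF4.TwistedFix.exists_rln hK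
  obtain ⟨S, hS⟩ : ∃ S : Full φ ↥(twistedF4 (ZMod 2) 1), S.R.p = 2 := by
    have h0 : ∃ S : Full φ ↥(twistedF4 (ZMod 2) (2 ^ 0)), S.R.p = 2 :=
      ⟨Cfsg.Agent.KFacts.TwF4.Inst.full hK hφ, rfl⟩
    rw [pow_zero] at h0
    exact h0
  have h01 : ∀ x : ZMod 2, x = 0 ∨ x = 1 := by
    intro x
    fin_cases x
    · exact Or.inl rfl
    · exact Or.inr rfl
  have T : Two (ZMod 2) (commutator ↥(twistedF4 (ZMod 2) 1)) := by
    refine ⟨h01, le_rfl, ?_⟩
    intro h1
    rw [h1, Subgroup.index_top] at hidx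
    norm_num at hidx
  have hfin : Finite ↥(twistedF4 (ZMod 2) 1) := inferInstance
  have hfin0 : Finite (ZMod 2) := inferInstance
  have hodd : Odd (3 ^ 3 * 5 ^ 2 * 13) := by decide
  have hc2 : Nat.card TitsGroup = 2 ^ 11 * (3 ^ 3 * 5 ^ 2 * 13) := by
    rw [hcard]
    norm_num
  exact @dData_full (ZMod 2) _ hfin0 φ _ _ hfin S _ h01 T hS hidx _ hodd hc2

theorem tits_evenO {X : Type*} [Group X] [Finite X] (h : IsoTits X) (hc : Subgroup.center X = ⊥) :
    EvenO X := by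
  obtain ⟨e⟩ := h
  have hfin : Finite TitsGroup := Finite.of_equiv _ e.toEquiv
  have h0 : Subgroup.center TitsGroup = ⊥ := by
    rw [Subgroup.eq_bot_iff_forall] at hc ⊢
    intro z hz
    have h1 := hc (e.symm z) (by
      rw [Subgroup.mem_center_iff] at hz ⊢
      intro g
      have h2 := hz (e g)
      apply e.injective
      rw [map_mul, map_mul, MulEquiv.apply_symm_apply]
      exact h2)
    have h3 := congrArg e h1
    rwa [MulEquiv.apply_symm_apply, map_one] at h3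
  have h1 := @evenO_of_dData TitsGroup _ hfin h0 tits_dData
  have e' := e.symm
  exact @EvenO.congr TitsGroup _ X _ hfin _ e' h1

end tits

end Cfsg.Agent.H727.Orth
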